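import Mathlib

/-!
# The Diophantine equations from the principal block
-/

set_option autoImplicit false

namespace Cfsg.Agent.CentFour

theorem rho_bounds {X : ℤ} (h8 : X % 8 = 1) (h1 : X ≠ 1) :
    21 * (X - 1) ^ 2 ≤ 32 * X * (X + 1) ∧ 32 * X * (X + 1) ≤ 45 * (X - 1) ^ 2 := by
  rcases (show X ≤ -7 ∨ 9 ≤ X by omega) with h | h
  · exact ⟨by nlinarith, by nlinarith⟩
  · exact ⟨by nlinarith, by nlinarith⟩

set_option maxHeartbeats 800000 in
theorem b_one {g m X Y Z : ℤ} (hm : m % 2 = 1) (hm3 : 3 ≤ m)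
    (hX : X % 8 = 1) (hY : Y % 8 = 3) (hZ : Z % 8 = 3) (hX1 : X ≠ 1) (hsum : 1 + X + Y + Z = 0)
    (hg : g * (X - 1) ^ 2 = 64 * m * (m + 1) ^ 2 * (X * (X + 1)))
    (hS : g * (X * Y * Z + Y * Z + X * Z + X * Y) = 256 * m ^ 2 * (X * Y * Z)) :
    (g = 2520 ∧ m = 3) ∨ (g = 7560 ∧ m = 5) := by
  have hX0 : X ≠ 0 := by omega
  have key : (m + 1) ^ 2 * (X + 1) ^ 2 * (Y * Z - X) = 4 * m * (Y * Z) * (X - 1) ^ 2 := by
    have h1 : g * ((X + 1) * (Y * Z - X)) = 256 * m ^ 2 * (X * Y * Z) := by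
      rw [← hS]; linear_combination (-g * X) * hsum
    have h2 : 64 * m * X * ((m + 1) ^ 2 * (X + 1) ^ 2 * (Y * Z - X)) =
        64 * m * X * (4 * m * (Y * Z) * (X - 1) ^ 2) := by
      linear_combination (X - 1) ^ 2 * h1 - (X + 1) * (Y * Z - X) * hg
    exact mul_left_cancel₀ (mul_ne_zero (mul_ne_zero (by norm_num) (by omega)) hX0) h2
  have hm16 : 16 * m ≤ 3 * (m + 1) ^ 2 := by nlinarith
  have hmsq : 4 * m < (m + 1) ^ 2 := by nlinarith
  rcases (show X ≤ -7 ∨ 9 ≤ X by omega) with hneg | hpos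
  · rcases (show (0 < Y ∧ 0 < Z) ∨ (0 < Y ∧ Z < 0) ∨ (Y < 0 ∧ 0 < Z) ∨ (Y < 0 ∧ Z < 0) by omega)
      with ⟨h2, h3⟩ | h23 | h23 | ⟨h2, h3⟩
    · exfalso
      obtain ⟨n, rfl⟩ : ∃ n, X = -n := ⟨-X, by ring⟩
      have ht : 4 * (Y * Z) ≤ (n - 1) ^ 2 := by
        rw [show n - 1 = Y + Z by omega]; nlinarith [sq_nonneg (Y - Z)]
      have htpos : 0 < Y * Z := mul_pos h2 h3
      have e : (m + 1) ^ 2 * (n - 1) ^ 2 * (Y * Z + n) = 4 * m * (Y * Z) * (n + 1) ^ 2 := by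
        linear_combination key
      have h5 : Y * Z * (n + 1) ^ 2 ≤ (n - 1) ^ 2 * (Y * Z + n) := by
        linarith [mul_le_mul_of_nonneg_left ht (show (0 : ℤ) ≤ n by omega)]
      linarith [mul_le_mul_of_nonneg_left h5 (sq_nonneg (m + 1)),
        mul_lt_mul_of_pos_right hmsq (show (0 : ℤ) < Y * Z * (n + 1) ^ 2 from
          mul_pos htpos (pow_pos (by omega) 2))]
    rotate_left 2
    · omega
    all_goals
      obtain ⟨n, rfl⟩ : ∃ n, X = -n := ⟨-X, by ring⟩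
      obtain ⟨h2, h3⟩ := h23
      obtain ⟨s, hs⟩ : ∃ s, s = -(Y * Z) := ⟨_, rfl⟩
      have hs5 : 5 * n + 20 ≤ s := by
        rw [hs]
        first
          | (have : Z ≤ -5 := by omega
             have : n + 4 ≤ Y := by omega
             nlinarith)
          | (have : Y ≤ -5 := by omega
             have : n + 4 ≤ Z := by omega
             nlinarith)
      have hn7 : 7 ≤ n := by omega
      have e : (m + 1) ^ 2 * (n - 1) ^ 2 * (s - n) = 4 * m * s * (n + 1) ^ 2 := by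
        rw [hs]; linear_combination -key
      have hs0 : 0 < s := by omega
      have e5 : 4 * s ≤ 5 * (s - n) := by omega
      have hn9 : 9 * (n + 1) ^ 2 ≤ 16 * (n - 1) ^ 2 := by nlinarith
      have hmle : m ≤ 6 := by
        have h1 : (m + 1) ^ 2 * (n - 1) ^ 2 * (4 * s) ≤ (m + 1) ^ 2 * (n - 1) ^ 2 * (5 * (s - n)) :=
          mul_le_mul_of_nonneg_left e5 (by positivity)
        have h2 : (m + 1) ^ 2 * s * (9 * (n + 1) ^ 2) ≤ (m + 1) ^ 2 * s * (16 * (n - 1) ^ 2) :=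
          mul_le_mul_of_nonneg_left hn9 (by positivity)
        have h3 : 9 * (m + 1) ^ 2 * (s * (n + 1) ^ 2) ≤ 80 * m * (s * (n + 1) ^ 2) := by linarith
        have h4 : 9 * (m + 1) ^ 2 ≤ 80 * m := le_of_mul_le_mul_right h3 (by positivity)
        nlinarith
      have hnle : n ≤ 61 := by
        have h1 : (m + 1) ^ 2 * (n - 1) ^ 2 * (4 * s) ≤ (m + 1) ^ 2 * (n - 1) ^ 2 * (5 * (s - n)) :=
          mul_le_mul_of_nonneg_left e5 (by positivity)
        have h2 : 16 * m * (s * (n + 1) ^ 2) ≤ 3 * (m + 1) ^ 2 * (s * (n + 1) ^ 2) :=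
          mul_le_mul_of_nonneg_right hm16 (by positivity)
        have h3 : (16 * (n - 1) ^ 2) * ((m + 1) ^ 2 * s) ≤ (15 * (n + 1) ^ 2) * ((m + 1) ^ 2 * s) := by
          linarith
        have h4 : 16 * (n - 1) ^ 2 ≤ 15 * (n + 1) ^ 2 := le_of_mul_le_mul_right h3 (by positivity)
        nlinarith
      obtain ⟨k, rfl⟩ : ∃ k, n = 8 * k + 7 := ⟨n / 8, by omega⟩
      have hk0 : 0 ≤ k := by omega
      have hk6 : k ≤ 6 := by omega
      clear key hS
      rcases (show m = 3 ∨ m = 5 by omega) with rfl | rfl <;> interval_cases k <;> norm_num at e hg hs5 <;> omega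
  · exfalso
    rcases (show (0 < Y * Z) ∨ (Y * Z < 0) by
      rcases lt_trichotomy (Y * Z) 0 with h | h | h
      · exact Or.inr h
      · rcases mul_eq_zero.1 h with h' | h' <;> omega
      · exact Or.inl h) with ht | ht
    · have h23 : Y < 0 ∧ Z < 0 := by
        rcases (show 0 < Y ∨ Y < 0 by omega) with h | h <;> constructor <;>
          first | omega | (by_contra hc; nlinarith)
      have : Y ≤ -5 := by omega
      have : Z ≤ -5 := by omega
      have h5 : 5 * X - 20 ≤ Y * Z := by nlinarith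
      have hle : 4 * (X + 1) ^ 2 * (Y * Z - X) ≤ 3 * (Y * Z) * (X - 1) ^ 2 := by
        have h1 : 16 * m * (Y * Z * (X - 1) ^ 2) ≤ 3 * (m + 1) ^ 2 * (Y * Z * (X - 1) ^ 2) :=
          mul_le_mul_of_nonneg_right hm16 (by positivity)
        have h2 : (4 * (X + 1) ^ 2 * (Y * Z - X)) * (m + 1) ^ 2 ≤
            (3 * (Y * Z) * (X - 1) ^ 2) * (m + 1) ^ 2 := by linarith
        exact le_of_mul_le_mul_right h2 (by positivity)
      nlinarith [mul_le_mul_of_nonneg_right h5 (show (0 : ℤ) ≤ X ^ 2 + 14 * X + 1 by positivity)]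
    · obtain ⟨s, hs⟩ : ∃ s, s = -(Y * Z) := ⟨_, rfl⟩
      have hs0 : 0 < s := by omega
      have e : (m + 1) ^ 2 * (X + 1) ^ 2 * (s + X) = 4 * m * s * (X - 1) ^ 2 := by
        rw [hs]; linear_combination -key
      have h1 : s * (X - 1) ^ 2 ≤ (X + 1) ^ 2 * (s + X) := by
        have : 0 ≤ (X + 1) ^ 2 * X := by positivity
        nlinarith
      linarith [mul_le_mul_of_nonneg_left h1 (sq_nonneg (m + 1)),
        mul_lt_mul_of_pos_right hmsq (show (0 : ℤ) < s * (X - 1) ^ 2 from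
          mul_pos hs0 (pow_pos (by omega) 2))]

end Cfsg.Agent.CentFour
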