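import Cfsg.Agent.Lib.Fusion.Basic
import Cfsg.Agent.Lib.Char.DihedralHom
import Mathlib.GroupTheory.FixedPointFree

/-!
# An element of order four with a centralizer of order four, dihedral Sylow 2-subgroup
-/

set_option autoImplicit false
set_option linter.unusedSectionVars false

namespace Cfsg.Agent.CentFour

open Cfsg.Agent.Fusion

universe u

variable {G : Type u} [Group G] {w τ : G} {O : Subgroup G}

/-- The hypotheses: `O` is the odd part of the centralizer of `w ^ 2`. -/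
structure Ctx (w τ : G) (O : Subgroup G) : Prop where
  wo : orderOf w = 4
  to' : orderOf τ = 2
  rel : τ * w * τ⁻¹ = w⁻¹
  cw : Nat.card (Subgroup.centralizer ({w} : Set G)) = 4
  syl : ∃ P : Sylow 2 G, (P : Subgroup G) = Subgroup.closure ({w, τ} : Set G)
  conj : ∀ a b : G, orderOf a = 2 → orderOf b = 2 → IsConj a b
  memO : ∀ x, x ∈ O ↔ x * w ^ 2 = w ^ 2 * x ∧ ¬ 2 ∣ orderOf x
  cz : Nat.card (Subgroup.centralizer ({w ^ 2} : Set G)) = 8 * Nat.card O

/-- The four group attached to a reflection. -/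
def four (w τ : G) : Subgroup G :=
  Subgroup.closure ({w, τ} : Set G) ⊓ Subgroup.centralizer ({τ} : Set G)

/-- The part of `O` fixed by `τ`. -/
def fixed (O : Subgroup G) (τ : G) : Subgroup G := O ⊓ Subgroup.centralizer ({τ} : Set G)

theorem mem_fixed {x : G} : x ∈ fixed O τ ↔ x ∈ O ∧ x * τ = τ * x := by
  rw [fixed, Subgroup.mem_inf, Subgroup.mem_centralizer_singleton_iff]

namespace Ctx

theorem w4 (h : Ctx w τ O) : w ^ 4 = 1 := by rw [← h.wo, pow_orderOf_eq_one]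

theorem tt (h : Ctx w τ O) : τ * τ = 1 := by rw [← pow_two, ← h.to', pow_orderOf_eq_one]

theorem tinv (h : Ctx w τ O) : τ⁻¹ = τ := inv_eq_of_mul_eq_one_left h.tt

theorem t_ne (h : Ctx w τ O) : τ ≠ 1 := fun e => by
  have := h.to'; rw [e, orderOf_one] at this; omega

theorem zz (h : Ctx w τ O) : w ^ 2 * w ^ 2 = 1 := by rw [← pow_add, h.w4]

theorem zinv (h : Ctx w τ O) : (w ^ 2)⁻¹ = w ^ 2 := inv_eq_of_mul_eq_one_left h.zz

theorem z_ne (h : Ctx w τ O) : w ^ 2 ≠ 1 := fun e => by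
  have := orderOf_dvd_of_pow_eq_one e
  rw [h.wo] at this
  norm_num at this

theorem z_ord (h : Ctx w τ O) : orderOf (w ^ 2) = 2 :=
  orderOf_eq_prime (by rw [pow_two (w ^ 2), h.zz]) h.z_ne

theorem tw (h : Ctx w τ O) : τ * w = w⁻¹ * τ := mul_inv_eq_iff_eq_mul.1 h.rel

theorem tz (h : Ctx w τ O) : τ * w ^ 2 = w ^ 2 * τ := by
  have h1 : τ * w ^ 2 * τ⁻¹ = w ^ 2 := by rw [← conj_pow, h.rel, inv_pow, h.zinv]
  exact mul_inv_eq_iff_eq_mul.1 h1

theorem wconj (h : Ctx w τ O) : w * τ * w⁻¹ = w ^ 2 * τ := by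
  rw [mul_assoc, show τ * w⁻¹ = w * τ from ?_, ← mul_assoc, ← pow_two]
  have h1 : τ * w⁻¹ * τ⁻¹ = w := by
    rw [show τ * w⁻¹ * τ⁻¹ = (τ * w * τ⁻¹)⁻¹ by group, h.rel, inv_inv]
  exact mul_inv_eq_iff_eq_mul.1 h1

theorem wt_sq (h : Ctx w τ O) : w * τ * (w * τ) = 1 := by
  rw [mul_assoc, ← mul_assoc τ w τ, h.tw, mul_assoc w⁻¹, h.tt, mul_one, mul_inv_cancel]

theorem wt_ne (h : Ctx w τ O) : w * τ ≠ 1 := fun e => by
  have h1 := h.wo
  rw [eq_inv_of_mul_eq_one_left e, h.tinv, h.to'] at h1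
  omega

theorem wt_ord (h : Ctx w τ O) : orderOf (w * τ) = 2 :=
  orderOf_eq_prime (by rw [pow_two, h.wt_sq]) h.wt_ne

theorem zt_sq (h : Ctx w τ O) : w ^ 2 * τ * (w ^ 2 * τ) = 1 := by
  rw [mul_assoc, ← mul_assoc τ, h.tz, mul_assoc, h.tt, mul_one, h.zz]

theorem zt_ne (h : Ctx w τ O) : w ^ 2 * τ ≠ 1 := fun e => by
  have h1 := h.wo
  have h2 : τ = w ^ 2 := by rw [← inv_eq_of_mul_eq_one_right e, h.zinv]
  have h3 := h.rel
  rw [h2, (Commute.pow_self w 2).eq, mul_inv_cancel_right] at h3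
  exact h.z_ne (by rw [pow_two]; nth_rw 2 [h3]; rw [mul_inv_cancel])

theorem zt_ord (h : Ctx w τ O) : orderOf (w ^ 2 * τ) = 2 :=
  orderOf_eq_prime (by rw [pow_two, h.zt_sq]) h.zt_ne

theorem closure_swap (h : Ctx w τ O) :
    Subgroup.closure ({w, w * τ} : Set G) = Subgroup.closure ({w, τ} : Set G) := by
  refine le_antisymm ((Subgroup.closure_le _).2 ?_) ((Subgroup.closure_le _).2 ?_)
  · rintro x (rfl | rfl)
    · exact Subgroup.subset_closure (by simp)
    · exact mul_mem (Subgroup.subset_closure (by simp)) (Subgroup.subset_closure (by simp))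
  · rintro x (rfl | rfl)
    · exact Subgroup.subset_closure (by simp)
    · have : x = w⁻¹ * (w * x) := by group
      rw [SetLike.mem_coe, this]
      exact mul_mem (inv_mem (Subgroup.subset_closure (by simp))) (Subgroup.subset_closure (by simp))

/-- The other reflection class. -/
theorem swap (h : Ctx w τ O) : Ctx w (w * τ) O where
  wo := h.wo
  to' := h.wt_ord
  rel := by
    rw [show w * τ * w * (w * τ)⁻¹ = w * (τ * w * τ⁻¹) * w⁻¹ by group, h.rel]
    group
  cw := h.cw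
  syl := by
    obtain ⟨P, hP⟩ := h.syl
    exact ⟨P, by rw [hP, h.closure_swap]⟩
  conj := h.conj
  memO := h.memO
  cz := h.cz

theorem closure_cases (h : Ctx w τ O) {s : G} (hs : s ∈ Subgroup.closure ({w, τ} : Set G)) :
    ∃ k < 4, s = w ^ k ∨ s = τ * w ^ k := by
  set ι := Char.dihHom (N := 4) h.w4 h.tt h.rel with hι
  have hle : Subgroup.closure ({w, τ} : Set G) ≤ ι.range := by
    rw [Subgroup.closure_le]
    rintro x (rfl | rfl)
    · exact ⟨.r ((1 : ℕ) : ZMod 4), by rw [hι, Char.dihHom_r, pow_one]⟩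
    · exact ⟨.sr 0, by rw [hι, Char.dihHom_sr_zero]⟩
  obtain ⟨d, rfl⟩ := hle hs
  cases d with
  | r i => exact ⟨i.val, ZMod.val_lt i, Or.inl rfl⟩
  | sr i => exact ⟨i.val, ZMod.val_lt i, Or.inr rfl⟩

theorem card_closure (h : Ctx w τ O) : Nat.card (Subgroup.closure ({w, τ} : Set G)) = 8 := by
  set ι := Char.dihHom (N := 4) h.w4 h.tt h.rel with hι
  have hw : w ∈ Subgroup.closure ({w, τ} : Set G) := Subgroup.subset_closure (by simp)
  have ht : τ ∈ Subgroup.closure ({w, τ} : Set G) := Subgroup.subset_closure (by simp)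
  have hr : ι.range = Subgroup.closure ({w, τ} : Set G) := by
    refine le_antisymm (Char.dihHom_range_le h.w4 h.tt h.rel hw ht) ?_
    rw [Subgroup.closure_le]
    rintro x (rfl | rfl)
    · exact ⟨.r ((1 : ℕ) : ZMod 4), by rw [hι, Char.dihHom_r, pow_one]⟩
    · exact ⟨.sr 0, by rw [hι, Char.dihHom_sr_zero]⟩
  rw [← hr, ← Nat.card_congr (MonoidHom.ofInjective
    (Char.dihHom_injective (dvd_refl 4) h.wo h.w4 h.tt h.rel)).toEquiv, DihedralGroup.nat_card]

theorem closure_le_cent (h : Ctx w τ O) :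
    Subgroup.closure ({w, τ} : Set G) ≤ Subgroup.centralizer ({w ^ 2} : Set G) := by
  rw [Subgroup.closure_le]
  rintro x (rfl | rfl) <;> rw [SetLike.mem_coe, Subgroup.mem_centralizer_singleton_iff]
  · exact (Commute.self_pow _ 2).eq
  · exact h.tz

theorem O_le (h : Ctx w τ O) : O ≤ Subgroup.centralizer ({w ^ 2} : Set G) := fun x hx =>
  Subgroup.mem_centralizer_singleton_iff.2 ((h.memO x).1 hx).1

theorem conjO (h : Ctx w τ O) {c x : G} (hc : c * w ^ 2 = w ^ 2 * c) (hx : x ∈ O) : c * x * c⁻¹ ∈ O := by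
  rw [h.memO] at hx ⊢
  refine ⟨?_, ?_⟩
  · exact ((show Commute c (w ^ 2) from hc).mul_left hx.1).mul_left (Commute.inv_left hc) |>.eq
  · rw [show c * x * c⁻¹ = MulAut.conj c x from rfl, MulEquiv.orderOf_eq]
    exact hx.2

section finite
variable [Finite G]

theorem odd_O (h : Ctx w τ O) : ¬ 2 ∣ Nat.card O := fun hd => by
  obtain ⟨x, hx⟩ := exists_prime_orderOf_dvd_card' (G := O) 2 hd
  exact ((h.memO x).1 x.2).2 (by rw [Subgroup.orderOf_coe, hx])

theorem eq_one_of_cw (h : Ctx w τ O) {x : G} (hx : ¬ 2 ∣ orderOf x) (hc : x * w = w * x) : x = 1 := by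
  have h4 : orderOf x ∣ 2 ^ 2 := by
    have := Subgroup.orderOf_dvd_natCard _ (Subgroup.mem_centralizer_singleton_iff.2 hc)
    rwa [h.cw] at this
  obtain ⟨j, -, hj⟩ := (Nat.dvd_prime_pow Nat.prime_two).1 h4
  rcases j with _ | j
  · exact orderOf_eq_one_iff.1 (by simpa using hj)
  · exact absurd (hj ▸ dvd_pow_self 2 (Nat.succ_ne_zero j)) hx

theorem inv_comm (h : Ctx w τ O) :
    ∀ x ∈ O, w * x * w⁻¹ = x⁻¹ ∧ ∀ y ∈ O, x * y = y * x := by
  have hwz : w * w ^ 2 = w ^ 2 * w := (Commute.self_pow _ 2).eq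
  let φ : O →* O :=
    { toFun := fun x => ⟨w * x * w⁻¹, h.conjO hwz x.2⟩
      map_one' := Subtype.ext (by simp)
      map_mul' := fun a b => Subtype.ext (by simp [mul_assoc]) }
  have hf : MonoidHom.FixedPointFree φ := fun x hx => Subtype.ext (by
    have e : w * (x : G) * w⁻¹ = x := congrArg Subtype.val hx
    exact h.eq_one_of_cw ((h.memO _).1 x.2).2 (mul_inv_eq_iff_eq_mul.1 e).symm)
  have hinv : Function.Involutive φ := fun x => Subtype.ext (by
    show w * (w * (x : G) * w⁻¹) * w⁻¹ = x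
    calc w * (w * (x : G) * w⁻¹) * w⁻¹ = w ^ 2 * (x : G) * (w ^ 2)⁻¹ := by rw [pow_two]; group
      _ = x := by rw [← ((h.memO _).1 x.2).1, mul_inv_cancel_right])
  intro x hx
  exact ⟨congrArg Subtype.val (congrFun (hf.coe_eq_inv_of_involutive hinv) ⟨x, hx⟩),
    fun y hy => congrArg Subtype.val (hf.commute_all_of_involutive hinv ⟨x, hx⟩ ⟨y, hy⟩).eq⟩

theorem w_inv (h : Ctx w τ O) {x : G} (hx : x ∈ O) : w * x * w⁻¹ = x⁻¹ := (h.inv_comm x hx).1

theorem O_comm (h : Ctx w τ O) {x y : G} (hx : x ∈ O) (hy : y ∈ O) : x * y = y * x :=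
  (h.inv_comm x hx).2 y hy

theorem O_sq (h : Ctx w τ O) {x : G} (hx : x ∈ O) (h2 : x⁻¹ = x) : x = 1 := by
  by_contra hne
  exact ((h.memO x).1 hx).2
    (by rw [orderOf_eq_prime (by rw [pow_two]; nth_rw 1 [← h2]; rw [inv_mul_cancel]) hne])

theorem O_inf_closure (h : Ctx w τ O) {x : G} (hx : x ∈ O)
    (hx' : x ∈ Subgroup.closure ({w, τ} : Set G)) : x = 1 := by
  have h8 := Subgroup.orderOf_dvd_natCard _ hx'
  rw [h.card_closure, show (8 : ℕ) = 2 ^ 3 by norm_num] at h8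
  obtain ⟨j, -, hj⟩ := (Nat.dvd_prime_pow Nat.prime_two).1 h8
  rcases j with _ | j
  · exact orderOf_eq_one_iff.1 (by simpa using hj)
  · exact absurd (hj ▸ dvd_pow_self 2 (Nat.succ_ne_zero j)) ((h.memO x).1 hx).2

theorem mul_unique (h : Ctx w τ O) {o o' s s' : G} (ho : o ∈ O) (ho' : o' ∈ O)
    (hs : s ∈ Subgroup.closure ({w, τ} : Set G)) (hs' : s' ∈ Subgroup.closure ({w, τ} : Set G))
    (he : o * s = o' * s') : o = o' ∧ s = s' := by
  have h1 : o'⁻¹ * o = s' * s⁻¹ := by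
    calc o'⁻¹ * o = o'⁻¹ * (o * s) * s⁻¹ := by group
      _ = o'⁻¹ * (o' * s') * s⁻¹ := by rw [he]
      _ = s' * s⁻¹ := by group
  have h2 : o'⁻¹ * o = 1 := h.O_inf_closure (mul_mem (inv_mem ho') ho) (h1 ▸ mul_mem hs' (inv_mem hs))
  refine ⟨(inv_mul_eq_one.1 h2).symm, ?_⟩
  rw [h2] at h1
  exact (mul_inv_eq_one.1 h1.symm).symm

theorem decomp (h : Ctx w τ O) {g : G} (hg : g * w ^ 2 = w ^ 2 * g) :
    ∃ o ∈ O, ∃ s ∈ Subgroup.closure ({w, τ} : Set G), g = o * s := by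
  let f : O × Subgroup.closure ({w, τ} : Set G) → Subgroup.centralizer ({w ^ 2} : Set G) :=
    fun p => ⟨p.1 * p.2, mul_mem (h.O_le p.1.2) (h.closure_le_cent p.2.2)⟩
  have hf : Function.Bijective f := by
    rw [Nat.bijective_iff_injective_and_card]
    refine ⟨fun p q e => ?_, by rw [Nat.card_prod, h.cz, h.card_closure, mul_comm]⟩
    obtain ⟨e1, e2⟩ := h.mul_unique p.1.2 q.1.2 p.2.2 q.2.2 (congrArg Subtype.val e)
    exact Prod.ext (Subtype.ext e1) (Subtype.ext e2)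
  obtain ⟨⟨o, s⟩, hos⟩ := hf.2 ⟨g, Subgroup.mem_centralizer_singleton_iff.2 hg⟩
  exact ⟨o, o.2, s, s.2, (congrArg Subtype.val hos).symm⟩

theorem mem_four_iff (h : Ctx w τ O) {s : G} :
    s ∈ four w τ ↔ s = 1 ∨ s = w ^ 2 ∨ s = τ ∨ s = w ^ 2 * τ := by
  have hwc : w ∈ Subgroup.closure ({w, τ} : Set G) := Subgroup.subset_closure (by simp)
  have htc : τ ∈ Subgroup.closure ({w, τ} : Set G) := Subgroup.subset_closure (by simp)
  constructor
  · intro hs
    obtain ⟨hsP, hst⟩ := hs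
    replace hst : s * τ = τ * s := Subgroup.mem_centralizer_singleton_iff.1 hst
    obtain ⟨k, hk, rfl | rfl⟩ := h.closure_cases hsP
    · interval_cases k
      · simp
      · exfalso
        rw [pow_one] at hst
        have := h.wconj
        rw [hst, mul_inv_cancel_right] at this
        exact h.z_ne (mul_eq_right.1 this.symm)
      · exact Or.inr (Or.inl rfl)
      · exfalso
        have e : w ^ 3 = w⁻¹ := eq_inv_of_mul_eq_one_left (by rw [← pow_succ, h.w4])
        rw [e] at hst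
        have := h.wconj
        rw [mul_assoc, ← hst, mul_inv_cancel_left] at this
        exact h.z_ne (mul_eq_right.1 this.symm)
    · have h' : w ^ k * τ = τ * w ^ k := by
        rw [← mul_assoc τ τ, h.tt, one_mul, mul_assoc] at hst
        calc w ^ k * τ = τ * (τ * (w ^ k * τ)) := by rw [← mul_assoc τ τ, h.tt, one_mul]
          _ = τ * w ^ k := by rw [hst]
      interval_cases k
      · simp
      · exfalso
        rw [pow_one] at h'
        have := h.wconj
        rw [h', mul_inv_cancel_right] at this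
        exact h.z_ne (mul_eq_right.1 this.symm)
      · exact Or.inr (Or.inr (Or.inr h.tz))
      · exfalso
        have e : w ^ 3 = w⁻¹ := eq_inv_of_mul_eq_one_left (by rw [← pow_succ, h.w4])
        rw [e] at h'
        have := h.wconj
        rw [mul_assoc, ← h', mul_inv_cancel_left] at this
        exact h.z_ne (mul_eq_right.1 this.symm)
  · intro hs
    refine ⟨?_, Subgroup.mem_centralizer_singleton_iff.2 ?_⟩
    · rcases hs with rfl | rfl | rfl | rfl
      · exact one_mem _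
      · exact pow_mem hwc 2
      · exact htc
      · exact mul_mem (pow_mem hwc 2) htc
    · rcases hs with rfl | rfl | rfl | rfl
      · simp
      · exact h.tz.symm
      · rfl
      · rw [mul_assoc, ← mul_assoc τ, h.tz, mul_assoc]

theorem four_le_cent (h : Ctx w τ O) : four w τ ≤ Subgroup.centralizer ({w ^ 2} : Set G) :=
  inf_le_left.trans h.closure_le_cent

theorem z_mem_four (h : Ctx w τ O) : w ^ 2 ∈ four w τ := h.mem_four_iff.2 (Or.inr (Or.inl rfl))

theorem t_mem_four (h : Ctx w τ O) : τ ∈ four w τ := h.mem_four_iff.2 (Or.inr (Or.inr (Or.inl rfl)))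

theorem card_four (h : Ctx w τ O) : Nat.card (four w τ) = 4 := by
  have hset : ((four w τ : Subgroup G) : Set G) = {1, w ^ 2, τ, w ^ 2 * τ} := by
    ext s; simp [h.mem_four_iff]
  show Nat.card ((four w τ : Subgroup G) : Set G) = 4
  rw [hset, Nat.card_coe_set_eq]
  have h1 : w ^ 2 ≠ τ := fun e => h.zt_ne (by rw [e, h.tt])
  have h2 : w ^ 2 ≠ w ^ 2 * τ := fun e => h.t_ne (mul_eq_left.1 e.symm)
  have h3 : τ ≠ w ^ 2 * τ := fun e => h.z_ne (mul_eq_right.1 e.symm)
  rw [Set.ncard_insert_of_notMem (by simp [h.z_ne.symm, h.t_ne.symm, h.zt_ne.symm]),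
    Set.ncard_insert_of_notMem (by simp [h1, h2]), Set.ncard_pair h3]

theorem four_comm (h : Ctx w τ O) {s t : G} (hs : s ∈ four w τ) (ht : t ∈ four w τ) :
    s * t = t * s := by
  have hc : ∀ {a : G}, a ∈ four w τ → Commute a (w ^ 2) ∧ Commute a τ := fun ha =>
    ⟨Subgroup.mem_centralizer_singleton_iff.1 (h.four_le_cent ha),
      Subgroup.mem_centralizer_singleton_iff.1 ha.2⟩
  rcases h.mem_four_iff.1 ht with rfl | rfl | rfl | rfl
  · simp
  · exact (hc hs).1.eq
  · exact (hc hs).2.eq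
  · exact ((hc hs).1.mul_right (hc hs).2).eq

theorem fixed_comm (h : Ctx w τ O) {x : G} (hx : x ∈ fixed O τ) {s : G} (hs : s ∈ four w τ) :
    x * s = s * x := by
  obtain ⟨hxO, hxt⟩ := mem_fixed.1 hx
  have hxz := ((h.memO x).1 hxO).1
  rcases h.mem_four_iff.1 hs with rfl | rfl | rfl | rfl
  · simp
  · exact hxz
  · exact hxt
  · exact ((show Commute x (w ^ 2) from hxz).mul_right hxt).eq

theorem closure_fix (h : Ctx w τ O) {x s : G} (hx : x ∈ fixed O τ) (hx1 : x ≠ 1)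
    (hs : s ∈ Subgroup.closure ({w, τ} : Set G)) (hc : x * s = s * x) : s ∈ four w τ := by
  obtain ⟨hxO, hxt⟩ := mem_fixed.1 hx
  have hxz := ((h.memO x).1 hxO).1
  refine ⟨hs, Subgroup.mem_centralizer_singleton_iff.2 ?_⟩
  have hodd : ∀ k, k = 1 ∨ k = 3 → x * w ^ k ≠ w ^ k * x := by
    intro k hk e
    refine hx1 (h.O_sq hxO ?_)
    have e1 : x * w = w * x := by
      rcases hk with rfl | rfl
      · simpa using e
      · have hcm : Commute x ((w ^ 3) ^ 3) := (show Commute x (w ^ 3) from e).pow_right 3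
        rwa [← pow_mul, show 3 * 3 = 4 + 4 + 1 by norm_num, pow_succ, pow_add, h.w4, one_mul, one_mul]
          at hcm
    rw [← h.w_inv hxO, ← e1, mul_inv_cancel_right]
  obtain ⟨k, hk, rfl | rfl⟩ := h.closure_cases hs
  · interval_cases k
    · simp
    · exact absurd hc (hodd 1 (Or.inl rfl))
    · exact h.tz.symm
    · exact absurd hc (hodd 3 (Or.inr rfl))
  · have hc' : x * w ^ k = w ^ k * x := by
      refine mul_left_cancel (a := τ) ?_
      rw [← mul_assoc, ← hxt, mul_assoc, hc, mul_assoc]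
    interval_cases k
    · simp
    · exact absurd hc' (hodd 1 (Or.inl rfl))
    · rw [mul_assoc, ← h.tz]
    · exact absurd hc' (hodd 3 (Or.inr rfl))

theorem fixed_mul (h : Ctx w τ O) :
    Nat.card (fixed O τ) * Nat.card (fixed O (w * τ)) = Nat.card O := by
  have hτ : ∀ x ∈ O, τ * x * τ⁻¹ ∈ O := fun x hx => h.conjO h.tz hx
  let φ : O →* O :=
    { toFun := fun x => x * ⟨τ * x * τ⁻¹, hτ x x.2⟩
      map_one' := Subtype.ext (by simp)
      map_mul' := fun a b => Subtype.ext (by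
        show (a : G) * b * (τ * ((a : G) * b) * τ⁻¹) = a * (τ * a * τ⁻¹) * (b * (τ * b * τ⁻¹))
        rw [show τ * ((a : G) * b) * τ⁻¹ = (τ * a * τ⁻¹) * (τ * b * τ⁻¹) by group]
        calc (a : G) * b * ((τ * a * τ⁻¹) * (τ * b * τ⁻¹))
            = a * (b * (τ * a * τ⁻¹)) * (τ * b * τ⁻¹) := by group
          _ = a * ((τ * a * τ⁻¹) * b) * (τ * b * τ⁻¹) := by rw [h.O_comm b.2 (hτ a a.2)]
          _ = _ := by group) }
  have hker : φ.ker.map O.subtype = fixed O (w * τ) := by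
    ext x
    constructor
    · rintro ⟨y, hy, rfl⟩
      have e : (y : G) * (τ * y * τ⁻¹) = 1 := congrArg Subtype.val (MonoidHom.mem_ker.1 hy)
      refine mem_fixed.2 ⟨y.2, ?_⟩
      have e2 : τ * (y : G) * τ⁻¹ = (y : G)⁻¹ := eq_inv_of_mul_eq_one_right e
      have e3 : w * (τ * (y : G) * τ⁻¹) * w⁻¹ = y := by rw [e2, h.w_inv (inv_mem y.2), inv_inv]
      show (y : G) * (w * τ) = w * τ * y
      calc (y : G) * (w * τ) = w * (τ * y * τ⁻¹) * w⁻¹ * (w * τ) := by rw [e3]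
        _ = w * τ * y := by group
    · intro hx
      obtain ⟨hxO, hxt⟩ := mem_fixed.1 hx
      refine ⟨⟨x, hxO⟩, MonoidHom.mem_ker.2 (Subtype.ext ?_), rfl⟩
      show x * (τ * x * τ⁻¹) = 1
      have e3 : w * (τ * x * τ⁻¹) * w⁻¹ = x := by
        calc w * (τ * x * τ⁻¹) * w⁻¹ = (w * τ * x) * (w * τ)⁻¹ := by group
          _ = (x * (w * τ)) * (w * τ)⁻¹ := by rw [hxt]
          _ = x := by group
      rw [h.w_inv (hτ x hxO)] at e3
      rw [← inv_inv (τ * x * τ⁻¹), e3, mul_inv_cancel]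
  have hran : φ.range.map O.subtype = fixed O τ := by
    ext x
    constructor
    · rintro ⟨_, ⟨y, rfl⟩, rfl⟩
      refine mem_fixed.2 ⟨(φ y).2, ?_⟩
      show (y : G) * (τ * y * τ⁻¹) * τ = τ * ((y : G) * (τ * y * τ⁻¹))
      rw [h.O_comm y.2 (hτ y y.2)]
      calc τ * (y : G) * τ⁻¹ * y * τ = τ * ((y : G) * (τ⁻¹ * y * τ)) := by group
        _ = τ * ((y : G) * (τ * y * τ⁻¹)) := by rw [h.tinv]
        _ = τ * ((τ * y * τ⁻¹) * y) := by rw [h.O_comm y.2 (hτ y y.2)]
    · intro hx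
      obtain ⟨hxO, hxt⟩ := mem_fixed.1 hx
      obtain ⟨m, hm⟩ := Nat.not_even_iff_odd.1 fun he =>
        ((h.memO x).1 hxO).2 (even_iff_two_dvd.1 he)
      refine ⟨φ (⟨x, hxO⟩ ^ (m + 1)), ⟨_, rfl⟩, ?_⟩
      show x ^ (m + 1) * (τ * x ^ (m + 1) * τ⁻¹) = x
      rw [← conj_pow, mul_inv_eq_iff_eq_mul.2 hxt.symm, ← pow_add,
        show m + 1 + (m + 1) = orderOf x + 1 by omega, pow_succ, pow_orderOf_eq_one, one_mul]
  have h1 := Subgroup.card_eq_card_quotient_mul_card_subgroup φ.ker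
  rw [Nat.card_congr (QuotientGroup.quotientKerEquivRange φ).toEquiv] at h1
  rw [h1, ← hran, ← hker, Subgroup.card_map_of_injective O.subtype_injective,
    Subgroup.card_map_of_injective O.subtype_injective]

theorem fixed_swap_swap (h : Ctx w τ O) : fixed O (w * (w * τ)) = fixed O τ := by
  ext x
  rw [mem_fixed, mem_fixed, show w * (w * τ) = w ^ 2 * τ by rw [← mul_assoc, pow_two]]
  refine and_congr_right fun hx => ?_
  have hxz : Commute x (w ^ 2) := ((h.memO x).1 hx).1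
  refine ⟨fun e => ?_, fun e => (hxz.mul_right e).eq⟩
  have := hxz.mul_right (show Commute x (w ^ 2 * τ) from e)
  rwa [← mul_assoc, h.zz, one_mul] at this

theorem card_cent_pair (h : Ctx w τ O) :
    Nat.card (Subgroup.centralizer ({w ^ 2, τ} : Set G)) = 4 * Nat.card (fixed O τ) := by
  have hmem : ∀ g, g ∈ Subgroup.centralizer ({w ^ 2, τ} : Set G) ↔ g * w ^ 2 = w ^ 2 * g ∧ g * τ = τ * g := by
    intro g
    simp [Subgroup.mem_centralizer_iff, eq_comm]
  let f : fixed O τ × four w τ → Subgroup.centralizer ({w ^ 2, τ} : Set G) := fun p =>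
    ⟨p.1 * p.2, (hmem _).2
      ⟨Subgroup.mem_centralizer_singleton_iff.1
        (mul_mem (h.O_le (mem_fixed.1 p.1.2).1) (h.four_le_cent p.2.2)),
      ((show Commute (p.1 : G) τ from (mem_fixed.1 p.1.2).2).mul_left
        (Subgroup.mem_centralizer_singleton_iff.1 p.2.2.2)).eq⟩⟩
  have hf : Function.Bijective f := by
    refine ⟨fun p q e => ?_, fun g => ?_⟩
    · obtain ⟨e1, e2⟩ := h.mul_unique (mem_fixed.1 p.1.2).1 (mem_fixed.1 q.1.2).1 p.2.2.1 q.2.2.1
        (congrArg Subtype.val e)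
      exact Prod.ext (Subtype.ext e1) (Subtype.ext e2)
    · obtain ⟨hgz, hgt⟩ := (hmem _).1 g.2
      obtain ⟨o, ho, s, hs, hgos⟩ := h.decomp hgz
      rw [hgos] at hgt
      have hts : τ * s * τ⁻¹ ∈ Subgroup.closure ({w, τ} : Set G) :=
        mul_mem (mul_mem (Subgroup.subset_closure (by simp)) hs) (inv_mem (Subgroup.subset_closure (by simp)))
      obtain ⟨e1, e2⟩ := h.mul_unique (h.conjO h.tz ho) ho hts hs (by
        calc τ * o * τ⁻¹ * (τ * s * τ⁻¹) = τ * (o * s) * τ⁻¹ := by group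
          _ = o * s := by rw [← hgt, mul_inv_cancel_right])
      exact ⟨(⟨o, mem_fixed.2 ⟨ho, (mul_inv_eq_iff_eq_mul.1 e1).symm⟩⟩,
        ⟨s, hs, Subgroup.mem_centralizer_singleton_iff.2 (mul_inv_eq_iff_eq_mul.1 e2).symm⟩),
        Subtype.ext hgos.symm⟩
  rw [← Nat.card_eq_of_bijective f hf, Nat.card_prod, h.card_four, mul_comm]

end finite

end Ctx

end Cfsg.Agent.CentFour
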