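import Cfsg.Agent.Lib.Char.Convolution
import Cfsg.Agent.Lib.Char.Central
import Cfsg.Agent.Lib.Char.Ortho

/-!
# Class multiplication coefficients of a class with itself
-/

set_option autoImplicit false
set_option linter.unusedSectionVars false

namespace Cfsg.Agent.CentFour

open Cfsg Cfsg.Agent.Char
open scoped ComplexConjugate

universe u

variable {G : Type u} [Group G] [Fintype G]

/-- The coefficient of the square of a class sum. -/
theorem pairs_formula (u x : G) :
    ((Nat.card (Subgroup.centralizer ({u} : Set G)) : ℂ)) ^ 2 *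
        Nat.card {v : G // IsConj u v ∧ IsConj u (v * x)} =
      (Nat.card G : ℂ) *
        ∑ χ : IrrCharacter G, conj ((χ : G → ℂ) u) * (χ : G → ℂ) u * (χ : G → ℂ) x / (χ : G → ℂ) 1 := by
  classical
  set C := Nat.card (Subgroup.centralizer ({u} : Set G)) with hC
  set N := Nat.card {v : G // IsConj u v ∧ IsConj u (v * x)} with hN
  have hterm : ∀ χ : IrrCharacter G,
      (Nat.card G : ℂ) * (conj ((χ : G → ℂ) u) * (χ : G → ℂ) u * (χ : G → ℂ) x / (χ : G → ℂ) 1) =
        conj ((χ : G → ℂ) u) * ∑ t : G, (χ : G → ℂ) ((t * u * t⁻¹) * x) := by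
    intro χ
    have h1 := sum_conj_mul χ.2 x u
    have h2 : (χ : G → ℂ) 1 ≠ 0 := irr_one_ne_zero χ.2
    have h3 : ∑ t : G, (χ : G → ℂ) ((t * u * t⁻¹) * x) = ∑ t : G, (χ : G → ℂ) (x * (t * u * t⁻¹)) :=
      Finset.sum_congr rfl fun t _ => by
        have h := isClassFunction_character (irr_isCharacter χ.2) (x * (t * u * t⁻¹)) x⁻¹
        rw [← h]
        congr 1
        group
    rw [h3, ← mul_div_assoc, div_eq_iff h2, mul_assoc (conj ((χ : G → ℂ) u)) (∑ t : G, _),
      mul_comm (∑ t : G, _), h1]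
    ring
  have hK : (Nat.card G : ℂ) / Nat.card {y : G // IsConj u y} = (C : ℂ) := by
    rw [div_eq_iff (Nat.cast_ne_zero.mpr (card_conjClass_ne_zero u)), ← Nat.cast_mul, hC,
      mul_comm (Nat.card (Subgroup.centralizer ({u} : Set G))), card_conjClass_mul_centralizer]
  have hfib : ∀ v : G, IsConj u v →
      (Finset.univ.filter fun t : G => t * u * t⁻¹ = v).card = C := by
    intro v hv
    obtain ⟨a, rfl⟩ := isConj_iff.mp hv
    rw [hC, Nat.card_eq_fintype_card, ← Finset.card_univ]
    refine Finset.card_bij' (fun t ht => (⟨a⁻¹ * t, ?_⟩ : Subgroup.centralizer ({u} : Set G)))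
      (fun c _ => a * c.1) (fun t _ => Finset.mem_univ _) (fun c _ => ?_) (fun t _ => by simp)
      (fun c _ => Subtype.ext (by simp))
    · have h := (Finset.mem_filter.mp ht).2
      refine Subgroup.mem_centralizer_singleton_iff.mpr ?_
      calc a⁻¹ * t * u = a⁻¹ * (t * u * t⁻¹) * t := by group
        _ = a⁻¹ * (a * u * a⁻¹) * t := by rw [h]
        _ = u * (a⁻¹ * t) := by group
    · have h := Subgroup.mem_centralizer_singleton_iff.mp c.2
      rw [Finset.mem_filter]
      refine ⟨Finset.mem_univ _, ?_⟩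
      calc a * c.1 * u * (a * c.1)⁻¹ = a * (c.1 * u) * (a * c.1)⁻¹ := by group
        _ = a * u * a⁻¹ := by rw [h]; group
  have hcount : (Finset.univ.filter fun t : G => IsConj u ((t * u * t⁻¹) * x)).card = C * N := by
    rw [Finset.card_eq_sum_card_fiberwise (f := fun t : G => t * u * t⁻¹)
      (t := Finset.univ.filter fun v : G => IsConj u v ∧ IsConj u (v * x))]
    · rw [Finset.sum_congr rfl fun v hv => show _ = C from ?_, Finset.sum_const, smul_eq_mul, hN,
        Nat.card_eq_fintype_card, Fintype.card_subtype, mul_comm]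
      obtain ⟨-, hv1, hv2⟩ := Finset.mem_filter.mp hv
      rw [Finset.filter_filter, ← hfib v hv1]
      refine congrArg Finset.card (Finset.filter_congr fun t _ => ⟨fun h => h.2, fun h => ⟨?_, h⟩⟩)
      rw [h]; exact hv2
    · intro t ht
      simp only [Finset.coe_filter, Finset.mem_univ, true_and, Set.mem_setOf_eq] at ht ⊢
      exact ⟨isConj_iff.mpr ⟨t, rfl⟩, ht⟩
  rw [Finset.mul_sum, Finset.sum_congr rfl fun χ _ => hterm χ]
  simp only [Finset.mul_sum]
  rw [Finset.sum_comm]
  have h1 : ∀ t : G, ∑ χ : IrrCharacter G, conj ((χ : G → ℂ) u) * (χ : G → ℂ) ((t * u * t⁻¹) * x) =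
      if IsConj u ((t * u * t⁻¹) * x) then (C : ℂ) else 0 := by
    intro t
    rw [Finset.sum_congr rfl fun χ _ => mul_comm _ _, second_orth, hK]
    by_cases h : IsConj u ((t * u * t⁻¹) * x)
    · rw [if_pos h, if_pos h.symm]
    · rw [if_neg h, if_neg fun h' => h h'.symm]
  rw [Finset.sum_congr rfl fun t _ => h1 t, ← Finset.sum_filter, Finset.sum_const, nsmul_eq_mul, hcount,
    Nat.cast_mul]
  ring

end Cfsg.Agent.CentFour
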