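import Cfsg.Agent.S4481
import Cfsg.Agent.S4482
import Cfsg.Agent.Lib.Char.CentralizerDEight
import Cfsg.Agent.Lib.Char.LocalRing
import Cfsg.Agent.Lib.Char.CentFour.Coeff

/-!
# The principal block of a group with dihedral Sylow 2-subgroups of order eight
-/

set_option autoImplicit false
set_option linter.unusedSectionVars false
set_option linter.style.haveILetI false

namespace Cfsg.Agent.CentFour

open Cfsg Cfsg.Agent.Char DihedralGroup
open scoped ComplexConjugate

universe u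

theorem order_data {G : Type u} [Group G] [Finite G] (P : Sylow 2 G) {w τ : G}
    (hwo : orderOf w = 4) (hto : orderOf τ = 2) (hrel : τ * w * τ⁻¹ = w⁻¹)
    (hgen : Subgroup.closure ({w, τ} : Set G) = (P : Subgroup G))
    (hc1 : IsConj (w ^ 2) τ) (hc2 : IsConj (w ^ 2) (w * τ)) :
    ∃ X Y Z : ℤ, X % 8 = 1 ∧ Y % 8 = 3 ∧ Z % 8 = 3 ∧ X ≠ 1 ∧ 1 + X + Y + Z = 0 ∧
      (Nat.card G : ℚ) * ((X : ℚ) - 1) ^ 2 =
        2 * (X : ℚ) * ((X : ℚ) + 1) * (Nat.card (Subgroup.centralizer ({w ^ 2} : Set G)) : ℚ) ^ 3 *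
          (1 / (Nat.card (Subgroup.centralizer ({w ^ 2, τ} : Set G)) : ℚ) +
            1 / (Nat.card (Subgroup.centralizer ({w ^ 2, w * τ} : Set G)) : ℚ)) ^ 2 ∧
      (Nat.card (Subgroup.centralizer ({w} : Set G)) = 4 →
        Nat.card {v : G // IsConj (w ^ 2) v ∧ IsConj (w ^ 2) (v * w)} = 4 →
        (Nat.card G : ℚ) * (1 + 1 / (X : ℚ) + 1 / (Y : ℚ) + 1 / (Z : ℚ)) =
          4 * (Nat.card (Subgroup.centralizer ({w ^ 2} : Set G)) : ℚ) ^ 2) := by
  classical
  letI : Fintype G := Fintype.ofFinite G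
  obtain ⟨M, hM⟩ := exists_pModular Nat.prime_two
  have hw1 : w ^ 4 = 1 := by rw [← hwo, pow_orderOf_eq_one]
  have htt : τ * τ = 1 := by rw [← pow_two, ← hto, pow_orderOf_eq_one]
  have hwP : w ∈ (P : Subgroup G) := hgen ▸ Subgroup.subset_closure (by simp)
  have htP : τ ∈ (P : Subgroup G) := hgen ▸ Subgroup.subset_closure (by simp)
  set ι := dihHom hw1 htt hrel with hι
  have hinj : Function.Injective ι := dihHom_injective (dvd_refl 4) hwo hw1 htt hrel
  have hr : ∀ l : ℕ, ι (r (l : ZMod 4)) = w ^ l := dihHom_r hw1 htt hrel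
  have hs0 : ι (sr 0) = τ := dihHom_sr_zero hw1 htt hrel
  have hrange : ι.range = (P : Subgroup G) := by
    refine le_antisymm (dihHom_range_le hw1 htt hrel hwP htP) ?_
    rw [← hgen, Subgroup.closure_le]
    rintro x (rfl | rfl)
    · exact ⟨r ((1 : ℕ) : ZMod 4), by rw [hr, pow_one]⟩
    · exact ⟨_, hs0⟩
  have hPiso : Nonempty ((P : Subgroup G) ≃* DihedralGroup (2 ^ (3 - 1))) :=
    ⟨((MulEquiv.subgroupCongr hrange.symm).trans (MonoidHom.ofInjective hinj).symm).trans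
      (MulEquiv.refl (DihedralGroup 4))⟩
  have hζ : IsPrimitiveRoot Complex.I 4 := by
    refine IsPrimitiveRoot.iff_def _ _ |>.2 ⟨Complex.I_pow_four, fun l hl => ?_⟩
    by_contra hd
    rw [Complex.I_pow_eq_pow_mod] at hl
    rcases (show l % 4 = 1 ∨ l % 4 = 2 ∨ l % 4 = 3 by omega) with h | h | h <;> rw [h] at hl <;>
      norm_num [Complex.ext_iff, pow_succ] at hl
  obtain ⟨-, χ₁, χ₂, χ₃, χ', δ₁, δ₂, δ₃, hd1, hd2, hd3, -, hn1, hn2, hn3, h12, h13, h23, -, hblock,
    hvals, hreg⟩ := S4481.result M hM 3 le_rfl P hPiso w hwP hwo Complex.I hζ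
  have hv1 := hvals 1 one_pos (by norm_num)
  have hv2 := hvals 2 two_pos (by norm_num)
  have hv3 := hvals 3 (by norm_num) (by norm_num)
  simp only [pow_one] at hv1
  -- the formula
  obtain ⟨hne, hord⟩ := S4482.result M hM 3 le_rfl P w τ hwP htP hwo hto hrel hgen ⟨hc1, hc2⟩ χ₁
    (by rw [hblock]; exact Or.inr (Or.inl rfl)) hn1 δ₁ hd1 (fun l hl hl' => (hvals l hl hl').1)
  simp only [show 3 - 2 = 1 from rfl, pow_one] at hord
  -- the values on the Sylow subgroup
  have hcf : ∀ (χ : IrrCharacter G) {a b : G}, IsConj a b → (χ : G → ℂ) a = (χ : G → ℂ) b := by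
    intro χ a b h
    obtain ⟨k, rfl⟩ := isConj_iff.mp h
    exact (isClassFunction_character (irr_isCharacter χ.2) a k).symm
  have hcong : ∀ (χ : IrrCharacter G) (a b : ℤ), (χ : G → ℂ) (w ^ 2) = a → (χ : G → ℂ) w = b →
      (χ : G → ℂ) (w ^ 3) = b → (8 : ℤ) ∣ (deg (χ : G → ℂ) : ℤ) + 5 * a + 2 * b := by
    intro χ a b ha hb hb3
    obtain ⟨k, hk⟩ := classInner_natCast (isCharacter_comp ι (irr_isCharacter χ.2))
      (isCharacter_linear (CentD8.lin 1 1))
    have hsr : ∀ i : ZMod 4, (χ : G → ℂ) (ι (sr i)) = a := by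
      intro i
      rw [← ha]
      refine (hcf χ ?_).symm
      have hsh : ∀ p j : ZMod 4, IsConj (ι (sr p)) (ι (sr (p + (j + j)))) := fun p j =>
        isConj_iff.2 ⟨ι (r (-j)), by
          rw [← map_inv, ← map_mul, ← map_mul, Solv.DihedralClasses.conj_sr]⟩
      rcases Solv.DihedralClasses.eq_two_mul_or i with ⟨j, rfl⟩ | ⟨j, rfl⟩
      · refine hc1.trans ?_
        rw [← hs0]
        simpa using hsh 0 j
      · refine hc2.trans ?_
        rw [show w * τ = ι (sr (-1)) by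
          rw [show (sr (-1) : DihedralGroup 4) = r ((1 : ℕ) : ZMod 4) * sr 0 by
            rw [r_mul_sr, Nat.cast_one, zero_sub], map_mul, hr, pow_one, hs0],
          show (1 : ZMod 4) + (j + j) = -1 + ((j + 1) + (j + 1)) by ring]
        exact hsh _ _
    rw [classInner, DihedralGroup.nat_card, CentD8.sum_d8] at hk
    simp only [CentD8.lin_apply, Function.comp_apply, hsr] at hk
    rw [show ι (r (0 : ZMod 4)) = 1 from map_one ι, show ι (r (1 : ZMod 4)) = w by
        rw [show (1 : ZMod 4) = ((1 : ℕ) : ZMod 4) from rfl, hr, pow_one],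
      show ι (r (2 : ZMod 4)) = w ^ 2 from hr 2, show ι (r (3 : ZMod 4)) = w ^ 3 from hr 3,
      char_one_eq_deg (irr_isCharacter χ.2), ha, hb, hb3] at hk
    simp [CentD8.sgn] at hk
    refine ⟨k, ?_⟩
    have h : (((deg (χ : G → ℂ) : ℤ) + 5 * a + 2 * b : ℤ) : ℂ) = ((8 * k : ℤ) : ℂ) := by
      push_cast
      linear_combination (norm := ring_nf) 8 * hk
    exact_mod_cast h
  set x : ℕ := deg (χ₁ : G → ℂ) with hx
  set y : ℕ := deg (χ₂ : G → ℂ) with hy
  set z : ℕ := deg (χ₃ : G → ℂ) with hz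
  have hc1' := hcong χ₁ δ₁ δ₁ (hv2.1) (hv1.1) (hv3.1)
  have hc2' := hcong χ₂ (-δ₂) δ₂ (by rw [hv2.2.1]; push_cast; ring) (by rw [hv1.2.1]; push_cast; ring)
    (by rw [hv3.2.1]; push_cast; ring)
  have hc3' := hcong χ₃ (-δ₃) δ₃ (by rw [hv2.2.2.1]; push_cast; ring) (by rw [hv1.2.2.1]; push_cast; ring)
    (by rw [hv3.2.2.1]; push_cast; ring)
  rw [← hx] at hc1'
  rw [← hy] at hc2'
  rw [← hz] at hc3'
  have hreg1 : 1 + (δ₁ : ℂ) * x = -(δ₂ : ℂ) * y - (δ₃ : ℂ) * z := by
    have := (hreg 1 (by simp) ⟨0, by norm_num⟩).1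
    rw [char_one_eq_deg (irr_isCharacter χ₁.2), char_one_eq_deg (irr_isCharacter χ₂.2),
      char_one_eq_deg (irr_isCharacter χ₃.2)] at this
    exact this
  have hcd : Cfsg.charDegree (χ₁ : G → ℂ) = x := rfl
  rw [hcd] at hord hne
  refine ⟨δ₁ * x, δ₂ * y, δ₃ * z, ?_, ?_, ?_, ?_, ?_, ?_, fun h4 hN => ?_⟩
  · rcases hd1 with rfl | rfl <;> omega
  · rcases hd2 with rfl | rfl <;> omega
  · rcases hd3 with rfl | rfl <;> omega
  · rcases hd1 with rfl | rfl <;> omega
  · have h : ((1 + δ₁ * x + δ₂ * y + δ₃ * z : ℤ) : ℂ) = ((0 : ℤ) : ℂ) := by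
      push_cast
      linear_combination hreg1
    exact_mod_cast h
  · rcases hd1 with rfl | rfl <;> push_cast at hord ⊢
    · simpa using hord
    · linear_combination hord
  · have hcase : ∀ χ : IrrCharacter G, χ ≠ irrOne → χ ≠ χ₁ → χ ≠ χ₂ → χ ≠ χ₃ → (χ : G → ℂ) w = 0 := by
      have horth := second_orth (G := G) w w
      rw [if_pos (IsConj.refl w)] at horth
      have hK : (Nat.card G : ℂ) / Nat.card {y : G // IsConj w y} = 4 := by
        rw [div_eq_iff (Nat.cast_ne_zero.mpr (card_conjClass_ne_zero w))]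
        rw [← card_conjClass_mul_centralizer w, h4]
        push_cast; ring
      rw [hK] at horth
      set S : Finset (IrrCharacter G) := {irrOne, χ₁, χ₂, χ₃} with hS
      have hn1' : irrOne ≠ χ₁ := fun e => hn1 (e ▸ rfl)
      have hn2' : irrOne ≠ χ₂ := fun e => hn2 (e ▸ rfl)
      have hn3' : irrOne ≠ χ₃ := fun e => hn3 (e ▸ rfl)
      have hsum4 : ∑ χ ∈ S, (χ : G → ℂ) w * conj ((χ : G → ℂ) w) = 4 := by
        rw [hS, Finset.sum_insert (by simp [hn1', hn2', hn3']),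
          Finset.sum_insert (by simp [h12, h13]), Finset.sum_pair h23, hv1.1, hv1.2.1, hv1.2.2.1]
        have e0 : ((irrOne : IrrCharacter G) : G → ℂ) w = 1 := rfl
        rw [e0]
        rcases hd1 with rfl | rfl <;> rcases hd2 with rfl | rfl <;> rcases hd3 with rfl | rfl <;>
          norm_num
      have hrest : ∑ χ ∈ Finset.univ \ S, (χ : G → ℂ) w * conj ((χ : G → ℂ) w) = 0 := by
        have := Finset.sum_sdiff (Finset.subset_univ S)
          (f := fun χ : IrrCharacter G => (χ : G → ℂ) w * conj ((χ : G → ℂ) w))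
        rw [hsum4, horth] at this
        linear_combination this
      simp only [Complex.mul_conj] at hrest
      rw [← Complex.ofReal_sum] at hrest
      have h0 := (Finset.sum_eq_zero_iff_of_nonneg (fun χ _ => Complex.normSq_nonneg _)).1
        (Complex.ofReal_eq_zero.1 hrest)
      intro χ e0 e1 e2 e3
      exact Complex.normSq_eq_zero.1 (h0 χ (by simp [hS, e0, e1, e2, e3]))
    have hform := pairs_formula (G := G) (w ^ 2) w
    rw [hN, ← Finset.sum_subset (Finset.subset_univ ({irrOne, χ₁, χ₂, χ₃} : Finset (IrrCharacter G)))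
      (fun χ _ hχ => by
        simp only [Finset.mem_insert, Finset.mem_singleton, not_or] at hχ
        rw [hcase χ hχ.1 hχ.2.1 hχ.2.2.1 hχ.2.2.2, mul_zero, zero_div]),
      Finset.sum_insert (by simp [show irrOne ≠ χ₁ from fun e => hn1 (e ▸ rfl),
        show irrOne ≠ χ₂ from fun e => hn2 (e ▸ rfl), show irrOne ≠ χ₃ from fun e => hn3 (e ▸ rfl)]),
      Finset.sum_insert (by simp [h12, h13]), Finset.sum_pair h23,
      hv1.1, hv1.2.1, hv1.2.2.1, hv2.1, hv2.2.1, hv2.2.2.1,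
      char_one_eq_deg (irr_isCharacter χ₁.2), char_one_eq_deg (irr_isCharacter χ₂.2),
      char_one_eq_deg (irr_isCharacter χ₃.2)] at hform
    have e0 : ∀ g : G, ((irrOne : IrrCharacter G) : G → ℂ) g = 1 := fun g => rfl
    rw [e0, e0, e0, ← hx, ← hy, ← hz] at hform
    have key : (((Nat.card G : ℚ) * (1 + 1 / ((δ₁ * x : ℤ) : ℚ) + 1 / ((δ₂ * y : ℤ) : ℚ) +
        1 / ((δ₃ * z : ℤ) : ℚ)) : ℚ) : ℂ) =
        ((4 * (Nat.card (Subgroup.centralizer ({w ^ 2} : Set G)) : ℚ) ^ 2 : ℚ) : ℂ) := by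
      rcases hd1 with rfl | rfl <;> rcases hd2 with rfl | rfl <;> rcases hd3 with rfl | rfl <;>
        (push_cast at hform ⊢; simp only [map_mul, map_pow, map_neg, map_one] at hform;
         linear_combination (norm := ring_nf) -hform)
    exact Rat.cast_injective key

end Cfsg.Agent.CentFour
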