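import Cfsg.Agent.Lib.Char.CentFour.Local
import Cfsg.Agent.Lib.Char.CentFour.Data
import Cfsg.Agent.Lib.Char.CentFour.Arith
import Cfsg.Agent.Lib.Fusion.FixedPointFormula
import Cfsg.Agent.Lib.Fusion.DihedralFours

/-!
# The order of a simple group with an element of order four whose centralizer has order four
-/

set_option autoImplicit false
set_option linter.unusedSectionVars false
set_option linter.style.haveILetI false

namespace Cfsg.Agent.CentFour

open Cfsg Cfsg.Agent.Fusion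

universe u

variable {G : Type u} [Group G] [Finite G] {w τ : G} {O W : Subgroup G}

/-- A normal subgroup of index at most two. -/
theorem false_of_index_le_two [IsSimpleGroup G] (hnc : ¬ IsCyclic G) {H : Subgroup G} (hH : H ≠ ⊤)
    (hi : H.index ≤ 2) : False := by
  have h0 := H.index_ne_zero_of_finite
  have h1 : H.index ≠ 1 := fun e => hH (Subgroup.index_eq_one.1 e)
  have h2 : H.index = 2 := by omega
  haveI := Subgroup.normal_of_index_eq_two h2
  rcases IsSimpleGroup.eq_bot_or_eq_top_of_normal H inferInstance with e | e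
  · rw [e, Subgroup.index_bot] at h2
    haveI : Fact (Nat.Prime 2) := ⟨Nat.prime_two⟩
    exact hnc (isCyclic_of_prime_card h2)
  · exact hH e

/-- The order is bounded by the factorial of the index of a proper subgroup. -/
theorem card_le_factorial [IsSimpleGroup G] {H : Subgroup G} (hH : H ≠ ⊤) :
    Nat.card G ≤ H.index.factorial := by
  classical
  haveI : H.normalCore.Normal := H.normalCore_normal
  have hb : H.normalCore = ⊥ := by
    rcases IsSimpleGroup.eq_bot_or_eq_top_of_normal H.normalCore inferInstance with e | e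
    · exact e
    · exact absurd (top_le_iff.1 (e ▸ H.normalCore_le)) hH
  have hinj : Function.Injective (MulAction.toPermHom G (G ⧸ H)) := by
    rw [← MonoidHom.ker_eq_bot_iff, ← Subgroup.normalCore_eq_ker, hb]
  letI := Fintype.ofFinite (G ⧸ H)
  have h := Nat.card_le_card_of_injective _ hinj
  rwa [Nat.card_perm, ← Subgroup.index_eq_card] at h

namespace Ctx

/-- The data from the principal block. -/
theorem data (h : Ctx w τ O) :
    ∃ X Y Z : ℤ, X % 8 = 1 ∧ Y % 8 = 3 ∧ Z % 8 = 3 ∧ X ≠ 1 ∧ 1 + X + Y + Z = 0 ∧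
      (Nat.card G : ℤ) * (X - 1) ^ 2 = 64 * (Nat.card (fixed O τ)) * (Nat.card (fixed O (w * τ))) *
        ((Nat.card (fixed O τ) : ℤ) + Nat.card (fixed O (w * τ))) ^ 2 * (X * (X + 1)) ∧
      (Nat.card G : ℤ) * (X * Y * Z + Y * Z + X * Z + X * Y) =
        256 * (Nat.card O : ℤ) ^ 2 * (X * Y * Z) := by
  obtain ⟨P, hP⟩ := h.syl
  obtain ⟨X, Y, Z, hX, hY, hZ, hX1, hsum, hord, hS⟩ := order_data P h.wo h.to' h.rel hP.symm
    (h.conj _ _ h.z_ord h.to') (h.conj _ _ h.z_ord h.wt_ord)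
  refine ⟨X, Y, Z, hX, hY, hZ, hX1, hsum, ?_, ?_⟩
  · rw [h.cz, h.card_cent_pair, h.swap.card_cent_pair, ← h.fixed_mul] at hord
    have ha : (Nat.card (fixed O τ) : ℚ) ≠ 0 := Nat.cast_ne_zero.2 Nat.card_pos.ne'
    have hb : (Nat.card (fixed O (w * τ)) : ℚ) ≠ 0 := Nat.cast_ne_zero.2 Nat.card_pos.ne'
    suffices hQ : (((Nat.card G : ℤ) * (X - 1) ^ 2 : ℤ) : ℚ) =
        ((64 * (Nat.card (fixed O τ)) * (Nat.card (fixed O (w * τ))) *
          ((Nat.card (fixed O τ) : ℤ) + Nat.card (fixed O (w * τ))) ^ 2 * (X * (X + 1)) : ℤ) : ℚ) by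
      exact_mod_cast hQ
    push_cast at hord ⊢
    rw [hord]
    field_simp
    ring
  · have hzp : Subgroup.zpowers w = Subgroup.centralizer ({w} : Set G) :=
      Subgroup.eq_of_le_of_card_ge (Subgroup.zpowers_le.2 (Subgroup.mem_centralizer_singleton_iff.2 rfl))
        (by rw [h.cw, Nat.card_zpowers, h.wo])
    have hrefl : ∀ c : G, c * w = w * c → orderOf (τ * c) = 2 := by
      intro c hc
      rw [← Subgroup.mem_centralizer_singleton_iff, ← hzp, Subgroup.mem_zpowers_iff] at hc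
      obtain ⟨k, rfl⟩ := hc
      have hne : τ * w ^ k ≠ 1 := fun e => by
        have h1 := h.rel
        rw [eq_inv_of_mul_eq_one_left e, ((Commute.zpow_self w k).inv_left).eq, mul_inv_cancel_right] at h1
        exact h.z_ne (by rw [pow_two]; nth_rw 2 [h1]; rw [mul_inv_cancel])
      refine orderOf_eq_prime ?_ hne
      have h1 : τ * w ^ k * τ⁻¹ = (w ^ k)⁻¹ := by rw [← conj_zpow, h.rel, inv_zpow]
      rw [h.tinv] at h1
      rw [pow_two, ← mul_assoc, h1, inv_mul_cancel]
    have hN : Nat.card {v : G // IsConj (w ^ 2) v ∧ IsConj (w ^ 2) (v * w)} = 4 := by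
      have hinv : ∀ v : G, IsConj (w ^ 2) v → v * v = 1 := by
        intro v hv
        obtain ⟨k, rfl⟩ := isConj_iff.1 hv
        rw [conj_mul, h.zz, mul_one, mul_inv_cancel]
      have hf : ∀ v : {v : G // IsConj (w ^ 2) v ∧ IsConj (w ^ 2) (v * w)},
          τ * (v : G) ∈ Subgroup.centralizer ({w} : Set G) := by
        rintro ⟨v, hv1, hv2⟩
        have e1 := hinv v hv1
        have e2 := hinv _ hv2
        have e3 : v * w = w⁻¹ * v := by
          rw [eq_inv_of_mul_eq_one_left e2, mul_inv_rev, inv_eq_of_mul_eq_one_left e1]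
        refine Subgroup.mem_centralizer_singleton_iff.2 ?_
        show τ * v * w = w * (τ * v)
        rw [mul_assoc, e3, ← mul_assoc, ← mul_assoc w]
        congr 1
        have h1 : τ * w⁻¹ * τ⁻¹ = w := by
          rw [show τ * w⁻¹ * τ⁻¹ = (τ * w * τ⁻¹)⁻¹ by group, h.rel, inv_inv]
        exact mul_inv_eq_iff_eq_mul.1 h1
      let e : {v : G // IsConj (w ^ 2) v ∧ IsConj (w ^ 2) (v * w)} ≃ Subgroup.centralizer ({w} : Set G) :=
        { toFun := fun v => ⟨τ * v, hf v⟩
          invFun := fun c => ⟨τ * c, h.conj _ _ h.z_ord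
              (hrefl c (Subgroup.mem_centralizer_singleton_iff.1 c.2)),
            h.conj _ _ h.z_ord (by
              rw [mul_assoc]
              refine hrefl _ ?_
              exact (congrArg (· * w) (Subgroup.mem_centralizer_singleton_iff.1 c.2)).trans (mul_assoc _ _ _))⟩
          left_inv := fun v => Subtype.ext (by simp [← mul_assoc, h.tt])
          right_inv := fun c => Subtype.ext (by simp [← mul_assoc, h.tt]) }
      rw [Nat.card_congr e, h.cw]
    have hq := hS h.cw hN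
    rw [h.cz] at hq
    have x0 : (X : ℚ) ≠ 0 := Int.cast_ne_zero.2 (by omega)
    have y0 : (Y : ℚ) ≠ 0 := Int.cast_ne_zero.2 (by omega)
    have z0 : (Z : ℚ) ≠ 0 := Int.cast_ne_zero.2 (by omega)
    suffices hQ : (((Nat.card G : ℤ) * (X * Y * Z + Y * Z + X * Z + X * Y) : ℤ) : ℚ) =
        ((256 * (Nat.card O : ℤ) ^ 2 * (X * Y * Z) : ℤ) : ℚ) by
      exact_mod_cast hQ
    push_cast at hq ⊢
    field_simp at hq
    linear_combination hq

theorem order_bounds (h : Ctx w τ O) :
    Nat.card G ≤ 90 * Nat.card (fixed O τ) * Nat.card (fixed O (w * τ)) *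
        (Nat.card (fixed O τ) + Nat.card (fixed O (w * τ))) ^ 2 ∧
      42 * Nat.card (fixed O τ) * Nat.card (fixed O (w * τ)) *
        (Nat.card (fixed O τ) + Nat.card (fixed O (w * τ))) ^ 2 ≤ Nat.card G := by
  obtain ⟨X, -, -, hX, -, -, hX1, -, hg, -⟩ := h.data
  obtain ⟨h1, h2⟩ := rho_bounds hX hX1
  set a := Nat.card (fixed O τ)
  set b := Nat.card (fixed O (w * τ))
  have hpos : (0 : ℤ) < (X - 1) ^ 2 := by
    have : X - 1 ≠ 0 := by omega
    positivity
  have hk : (0 : ℤ) ≤ 2 * a * b * ((a : ℤ) + b) ^ 2 := by positivity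
  constructor
  · have := mul_le_mul_of_nonneg_left h2 hk
    have key : (Nat.card G : ℤ) * (X - 1) ^ 2 ≤ (90 * a * b * ((a : ℤ) + b) ^ 2) * (X - 1) ^ 2 := by
      linarith
    exact_mod_cast le_of_mul_le_mul_right key hpos
  · have := mul_le_mul_of_nonneg_left h1 hk
    have key : (42 * a * b * ((a : ℤ) + b) ^ 2) * (X - 1) ^ 2 ≤ (Nat.card G : ℤ) * (X - 1) ^ 2 := by
      linarith
    exact_mod_cast le_of_mul_le_mul_right key hpos

theorem fixed_sup (h : Ctx w τ O) {g : G} (h1 : ∀ x ∈ fixed O τ, x * g = g * x)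
    (h2 : ∀ x ∈ fixed O (w * τ), x * g = g * x) : ∀ x ∈ O, x * g = g * x := by
  intro x hx
  have hτx : τ * x * τ⁻¹ ∈ O := h.conjO h.tz hx
  have p : x * (τ * x * τ⁻¹) ∈ fixed O τ := by
    refine mem_fixed.2 ⟨mul_mem hx hτx, ?_⟩
    calc x * (τ * x * τ⁻¹) * τ = τ * ((τ⁻¹ * x * τ) * x) := by group
      _ = τ * ((τ * x * τ⁻¹) * x) := by rw [h.tinv]
      _ = τ * (x * (τ * x * τ⁻¹)) := by rw [h.O_comm hx hτx]
  have q : x * (τ * x * τ⁻¹)⁻¹ ∈ fixed O (w * τ) := by
    refine mem_fixed.2 ⟨mul_mem hx (inv_mem hτx), ?_⟩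
    have e : w * τ * (x * (τ * x * τ⁻¹)⁻¹) * (w * τ)⁻¹ = x * (τ * x * τ⁻¹)⁻¹ := by
      calc w * τ * (x * (τ * x * τ⁻¹)⁻¹) * (w * τ)⁻¹
          = (w * (τ * x * τ⁻¹) * w⁻¹) * (w * (τ * τ) * x * (τ * τ)⁻¹ * w⁻¹)⁻¹ := by group
        _ = _ := by
          rw [h.tt, mul_one, inv_one, mul_one, h.w_inv hτx, h.w_inv hx, inv_inv,
            h.O_comm hx (inv_mem hτx)]
    exact (mul_inv_eq_iff_eq_mul.1 e).symm
  have hsq : Commute (x ^ 2) g := by
    have : x ^ 2 = (x * (τ * x * τ⁻¹)) * (x * (τ * x * τ⁻¹)⁻¹) := by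
      rw [h.O_comm hx (inv_mem hτx), pow_two]; group
    rw [this]
    exact (show Commute _ g from h1 _ p).mul_left (h2 _ q)
  obtain ⟨m, hm⟩ := Nat.not_even_iff_odd.1 fun he => ((h.memO x).1 hx).2 (even_iff_two_dvd.1 he)
  have hx' : x = (x ^ 2) ^ (m + 1) := by
    rw [← pow_mul, show 2 * (m + 1) = orderOf x + 1 by omega, pow_succ, pow_orderOf_eq_one, one_mul]
  rw [hx']
  exact (hsq.pow_left (m + 1)).eq

theorem cent_O_swap (h : Ctx w τ O) {x₀ x₁ : G} (hx₀ : x₀ ∈ fixed O τ) (hx₀' : x₀ ≠ 1)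
    (hx₁ : x₁ ∈ fixed O (w * τ)) (hx₁' : x₁ ≠ 1) :
    ∃ W : Subgroup G, (∀ x, x ∈ W ↔ (∀ o ∈ O, o * x = x * o) ∧ ¬ 2 ∣ orderOf x) ∧
      Nat.card (Subgroup.centralizer (fixed O τ : Set G)) *
        Nat.card (Subgroup.centralizer (fixed O (w * τ) : Set G)) ≤ Nat.card G * (2 * Nat.card W) := by
  haveI : Fact (Nat.Prime 2) := ⟨Nat.prime_two⟩
  set K := Subgroup.centralizer (O : Set G) with hK
  have hzK : w ^ 2 ∈ K := Subgroup.mem_centralizer_iff.2 fun x hx => ((h.memO x).1 hx).1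
  obtain ⟨Q, hQ, hzQ⟩ := exists_sylIn_ge (p := 2)
    (IsPGroup.of_card (p := 2) (n := 1) (by rw [Nat.card_zpowers, h.z_ord, pow_one]) :
      IsPGroup 2 (Subgroup.zpowers (w ^ 2))) (Subgroup.zpowers_le.2 hzK)
  have hzQ' : w ^ 2 ∈ Q := hzQ (Subgroup.mem_zpowers _)
  have hQK := hQ.le
  have hxodd := ((h.memO x₀).1 (mem_fixed.1 hx₀).1).2
  have hQ2 : Q = Subgroup.zpowers (w ^ 2) := by
    refine le_antisymm (fun q hq => ?_) hzQ
    obtain ⟨P, hP⟩ := h.syl
    obtain ⟨k, hk⟩ := IsPGroup.iff_card.1 hQ.isPGroup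
    have hk8 : Nat.card Q ≤ 8 := by
      rw [← h.card_closure, ← hP]; exact (sylIn_top P).card_le hQ.isPGroup le_top
    rw [hk] at hk8
    have hk3 : k ≤ 3 := by
      by_contra hc
      have := Nat.pow_le_pow_right two_pos (show 4 ≤ k by omega)
      omega
    have hk2 : k ≤ 2 := by
      by_contra hc
      obtain rfl : k = 3 := by omega
      exact h.no_eight (Q := Q) (by rw [hk]; norm_num) hx₀' hxodd fun q hq =>
        Subgroup.mem_centralizer_iff.1 (hQK hq) x₀ (mem_fixed.1 hx₀).1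
    have hqz : q * w ^ 2 = w ^ 2 * q := by
      have hc : ∀ a b : Q, a * b = b * a := by
        interval_cases k
        · intro a b
          haveI := (Nat.card_eq_one_iff_unique.1 (hk.trans (pow_zero 2))).1
          exact Subsingleton.elim _ _
        · haveI : IsCyclic Q := isCyclic_of_prime_card (p := 2) (by simpa using hk)
          letI := IsCyclic.commGroup (α := Q)
          exact mul_comm
        · exact IsPGroup.commutative_of_card_eq_prime_sq hk
      exact congrArg Subtype.val (hc ⟨q, hq⟩ ⟨w ^ 2, hzQ'⟩)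
    obtain ⟨o, ho, s, hs, rfl⟩ := h.decomp hqz
    have hcomm : ∀ x ∈ O, x * s = s * x := by
      intro x hx
      have := Subgroup.mem_centralizer_iff.1 (hQK hq) x hx
      refine mul_left_cancel (a := o) ?_
      rw [← mul_assoc, h.O_comm ho hx, mul_assoc, this, mul_assoc]
    have hs1 := h.closure_fix hx₀ hx₀' hs (hcomm _ (mem_fixed.1 hx₀).1)
    have hs2 := h.swap.closure_fix hx₁ hx₁' (by rwa [h.closure_swap]) (hcomm _ (mem_fixed.1 hx₁).1)
    have hs' : s = 1 ∨ s = w ^ 2 := by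
      rcases h.mem_four_iff.1 hs1 with e | e | e | e
      · exact Or.inl e
      · exact Or.inr e
      · exfalso
        subst e
        rcases h.swap.mem_four_iff.1 hs2 with e | e | e | e
        · exact h.t_ne e
        · exact h.zt_ne (by rw [e, h.zz])
        · have := h.wo; rw [mul_eq_right.1 e.symm, orderOf_one] at this; omega
        · have h1 : w ^ 3 = 1 := by
            rw [pow_succ]; exact mul_eq_right.1 (by rw [mul_assoc]; exact e.symm)
          have := orderOf_dvd_of_pow_eq_one h1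
          rw [h.wo] at this; norm_num at this
      · exfalso
        subst e
        rcases h.swap.mem_four_iff.1 hs2 with e | e | e | e
        · exact h.zt_ne e
        · exact h.t_ne (mul_eq_left.1 e)
        · have h1 := mul_right_cancel e
          rw [pow_two] at h1
          have := h.wo; rw [mul_eq_left.1 h1, orderOf_one] at this; omega
        · have h1 := mul_left_cancel e
          have := h.wo; rw [mul_eq_right.1 h1.symm, orderOf_one] at this; omega
    have hoQ : o ∈ Q := by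
      rcases hs' with rfl | rfl
      · simpa using hq
      · have := Q.mul_mem hq hzQ'
        rwa [mul_assoc, h.zz, mul_one] at this
    have ho1 : o = 1 := by
      obtain ⟨j, hj⟩ := IsPGroup.iff_orderOf.1 hQ.isPGroup ⟨o, hoQ⟩
      rw [Subgroup.orderOf_mk] at hj
      rcases j with _ | j
      · exact orderOf_eq_one_iff.1 (by simpa using hj)
      · exact absurd (hj ▸ dvd_pow_self 2 (Nat.succ_ne_zero j)) ((h.memO o).1 ho).2
    rw [ho1, one_mul]
    rcases hs' with rfl | rfl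
    · exact one_mem _
    · exact Subgroup.mem_zpowers _
  obtain ⟨Qs, hQs⟩ := hQ.exists_sylow_subgroupOf
  have hQs2 : Nat.card (Qs : Subgroup K) = 2 := by
    rw [hQs, Nat.card_congr (Subgroup.subgroupOfEquivOfLe hQK).toEquiv, hQ2, Nat.card_zpowers, h.z_ord]
  haveI : IsCyclic (Qs : Subgroup K) := isCyclic_of_prime_card (p := 2) hQs2
  obtain ⟨N, hNn, hNc⟩ := hnpc_exists_complement (DihedralFours.hnpc_two_cyclic Qs inferInstance) Qs
  have hidx : N.index = 2 := by rw [hNc.symm.index_eq_card, hQs2]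
  have hNodd : ¬ 2 ∣ Nat.card N := by
    rw [← hNc.index_eq_card]; exact Qs.not_dvd_index
  refine ⟨N.map K.subtype, fun x => ⟨?_, ?_⟩, ?_⟩
  · rintro ⟨y, hy, rfl⟩
    refine ⟨fun o ho => Subgroup.mem_centralizer_iff.1 y.2 o ho, fun hd => hNodd ?_⟩
    rw [Subgroup.coe_subtype, Subgroup.orderOf_coe] at hd
    exact hd.trans (Subgroup.orderOf_dvd_natCard N hy)
  · rintro ⟨hc, hxo⟩
    refine ⟨⟨x, Subgroup.mem_centralizer_iff.2 hc⟩, ?_, rfl⟩
    set y : K := ⟨x, Subgroup.mem_centralizer_iff.2 hc⟩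
    show y ∈ N
    rw [← QuotientGroup.eq_one_iff, ← orderOf_eq_one_iff]
    refine Nat.eq_one_of_dvd_coprimes (a := 2) ?_ ?_ (orderOf_map_dvd (QuotientGroup.mk' N) y)
    · rw [Nat.prime_two.coprime_iff_not_dvd, ← Subgroup.orderOf_coe]; exact hxo
    · have := orderOf_dvd_natCard (QuotientGroup.mk' N y)
      rwa [← Subgroup.index_eq_card, hidx] at this
  · rw [Subgroup.card_map_of_injective K.subtype_injective, show 2 * Nat.card N = Nat.card K by
      rw [← hidx, Subgroup.index_mul_card]]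
    set HA := Subgroup.centralizer (fixed O τ : Set G)
    set HB := Subgroup.centralizer (fixed O (w * τ) : Set G)
    have heq : HA ⊓ HB = K := by
      refine le_antisymm (fun g hg => Subgroup.mem_centralizer_iff.2 ?_) (le_inf ?_ ?_)
      · exact h.fixed_sup (fun x hx => Subgroup.mem_centralizer_iff.1 hg.1 x hx)
          (fun x hx => Subgroup.mem_centralizer_iff.1 hg.2 x hx)
      · exact Subgroup.centralizer_le fun x hx => (mem_fixed.1 hx).1
      · exact Subgroup.centralizer_le fun x hx => (mem_fixed.1 hx).1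
    have h1 := Subgroup.index_inf_le (H := HA) (K := HB)
    rw [heq] at h1
    refine Nat.le_of_mul_le_mul_left (?_ : K.index * _ ≤ K.index * _)
      (Nat.pos_of_ne_zero Subgroup.index_ne_zero_of_finite)
    calc K.index * (Nat.card HA * Nat.card HB) ≤ HA.index * HB.index * (Nat.card HA * Nat.card HB) :=
          Nat.mul_le_mul_right _ h1
      _ = Nat.card G * Nat.card G := by
          rw [mul_mul_mul_comm, Subgroup.index_mul_card, Subgroup.index_mul_card]
      _ = K.index * (Nat.card G * Nat.card K) := by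
          rw [mul_left_comm, Subgroup.index_mul_card]

/-- The odd part of the centralizer of `O`, cut by the four group. -/
theorem w_formula (h : Ctx w τ O)
    (hW : ∀ x, x ∈ W ↔ (∀ o ∈ O, o * x = x * o) ∧ ¬ 2 ∣ orderOf x) :
    ∃ e, e ∣ Nat.card (fixed O (w * τ)) ∧ Nat.card W = Nat.card O * e ^ 2 ∧
      (e = Nat.card (fixed O (w * τ)) →
        ∀ n : G, (∀ v ∈ four w τ, n * v * n⁻¹ ∈ four w τ) → n ∈ Subgroup.normalizer (W : Set G)) := by
  classical
  haveI : Fact (Nat.Prime 2) := ⟨Nat.prime_two⟩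
  set V := four w τ with hV
  set A := fixed O τ with hA
  have hOW : O ≤ W := fun x hx => (hW x).2 ⟨fun o ho => h.O_comm ho hx, ((h.memO x).1 hx).2⟩
  have hWz : W ⊓ Subgroup.centralizer ({w ^ 2} : Set G) = O := by
    refine le_antisymm (fun x hx => ?_) (le_inf hOW h.O_le)
    exact (h.memO x).2 ⟨Subgroup.mem_centralizer_singleton_iff.1 hx.2, ((hW x).1 hx.1).2⟩
  have hWV : W ⊓ Subgroup.centralizer (V : Set G) = A := by
    refine le_antisymm (fun x hx => h.mem_fixed_of_odd ((hW x).1 hx.1).2 ?_ ?_)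
      (fun x hx => ⟨hOW (mem_fixed.1 hx).1, Subgroup.mem_centralizer_iff.2 fun v hv =>
        (h.fixed_comm hx hv).symm⟩)
    · exact (Subgroup.mem_centralizer_iff.1 hx.2 _ h.z_mem_four).symm
    · exact (Subgroup.mem_centralizer_iff.1 hx.2 _ h.t_mem_four).symm
  have hnO : ∀ c : G, c * w ^ 2 = w ^ 2 * c → ∀ x ∈ W, c * x * c⁻¹ ∈ W := by
    intro c hc x hx
    obtain ⟨h1, h2⟩ := (hW x).1 hx
    refine (hW _).2 ⟨fun o ho => ?_, by
      rw [show c * x * c⁻¹ = MulAut.conj c x from rfl, MulEquiv.orderOf_eq]; exact h2⟩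
    have h3 := h.conjO ((show Commute c (w ^ 2) from hc).inv_left).eq ho
    rw [inv_inv] at h3
    have h4 := h1 _ h3
    calc o * (c * x * c⁻¹) = c * (c⁻¹ * o * c * x) * c⁻¹ := by group
      _ = c * (x * (c⁻¹ * o * c)) * c⁻¹ := by rw [h4]
      _ = _ := by group
  have hVW : V ≤ Subgroup.normalizer (W : Set G) := fun v hv => mem_normalizer_of_cj_le (by
    rintro _ ⟨x, hx, rfl⟩
    exact hnO v (Subgroup.mem_centralizer_singleton_iff.1 (h.four_le_cent hv)) x hx)
  have hWodd : ¬ 2 ∣ Nat.card W := fun hd => by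
    obtain ⟨x, hx⟩ := exists_prime_orderOf_dvd_card' (G := W) 2 hd
    exact ((hW x).1 x.2).2 (by rw [Subgroup.orderOf_coe, hx])
  have hVc : IsMulCommutative V := ⟨⟨fun a b => Subtype.ext (h.four_comm a.2 b.2)⟩⟩
  have hVe : ∀ v ∈ V, v ^ 2 = 1 := by
    intro v hv
    rw [pow_two]
    rcases h.mem_four_iff.1 hv with rfl | rfl | rfl | rfl
    · exact one_mul 1
    · exact h.zz
    · exact h.tt
    · exact h.zt_sq
  have hnonId : nonId V = {w ^ 2, τ, w ^ 2 * τ} := by
    ext v
    rw [mem_nonId, h.mem_four_iff]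
    simp only [Finset.mem_insert, Finset.mem_singleton]
    constructor
    · rintro ⟨e | e | e | e, hne⟩
      · exact absurd e hne
      all_goals simp [e]
    · rintro (e | e | e) <;> subst e
      · exact ⟨Or.inr (Or.inl rfl), h.z_ne⟩
      · exact ⟨Or.inr (Or.inr (Or.inl rfl)), h.t_ne⟩
      · exact ⟨Or.inr (Or.inr (Or.inr rfl)), h.zt_ne⟩
  have hne1 : w ^ 2 ∉ ({τ, w ^ 2 * τ} : Finset G) := by
    simp only [Finset.mem_insert, Finset.mem_singleton, not_or]
    exact ⟨fun e => h.zt_ne (by rw [e, h.tt]), fun e => h.t_ne (mul_eq_left.1 e.symm)⟩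
  have hne2 : τ ∉ ({w ^ 2 * τ} : Finset G) := by
    simp only [Finset.mem_singleton]
    exact fun e => h.z_ne (mul_eq_right.1 e.symm)
  have hcop : ∀ L : Subgroup G, L ≤ W → (Nat.card V).Coprime (Nat.card L) := by
    intro L hL
    rw [h.card_four, show (4 : ℕ) = 2 ^ 2 by norm_num]
    exact (Nat.prime_two.coprime_iff_not_dvd.2 fun hd => hWodd (hd.trans (Subgroup.card_dvd_of_le hL))).pow_left 2
  have hform : ∀ L : Subgroup G, L ≤ W → V ≤ Subgroup.normalizer (L : Set G) →
      Nat.card (L ⊓ Subgroup.centralizer {w ^ 2} : Subgroup G) *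
        (Nat.card (L ⊓ Subgroup.centralizer {τ} : Subgroup G) *
          Nat.card (L ⊓ Subgroup.centralizer {w ^ 2 * τ} : Subgroup G)) =
        Nat.card L * Nat.card (L ⊓ Subgroup.centralizer (V : Set G) : Subgroup G) ^ 2 := by
    intro L hL hVL
    have := fixed_formula (p := 2) hVc (by rw [h.card_four]; norm_num) hVe hVL (hcop L hL)
    rw [hnonId, Finset.prod_insert hne1, Finset.prod_insert hne2, Finset.prod_singleton,
      show (2 : ℕ) - 1 = 1 from rfl, pow_one] at this
    exact this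
  set Wt := W ⊓ Subgroup.centralizer ({τ} : Set G) with hWt
  set Ws := W ⊓ Subgroup.centralizer ({w ^ 2 * τ} : Set G) with hWs
  -- conjugation by `w`
  have hwz : w * w ^ 2 = w ^ 2 * w := (Commute.self_pow w 2).eq
  have hconjs : cj Wt w = Ws := by
    ext x
    rw [mem_cj, hWt, hWs, Subgroup.mem_inf, Subgroup.mem_inf, Subgroup.mem_centralizer_singleton_iff,
      Subgroup.mem_centralizer_singleton_iff]
    refine and_congr ⟨fun hx => ?_, fun hx => ?_⟩ ⟨fun e => ?_, fun e => ?_⟩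
    · have := hnO w hwz _ hx
      rwa [show w * (w⁻¹ * x * w) * w⁻¹ = x by group] at this
    · have := hnO w⁻¹ ((show Commute w (w ^ 2) from hwz).inv_left).eq _ hx
      rwa [inv_inv] at this
    · rw [← h.wconj]
      calc x * (w * τ * w⁻¹) = w * (w⁻¹ * x * w * τ) * w⁻¹ := by group
        _ = w * (τ * (w⁻¹ * x * w)) * w⁻¹ := by rw [e]
        _ = _ := by group
    · rw [← h.wconj] at e
      calc w⁻¹ * x * w * τ = w⁻¹ * (x * (w * τ * w⁻¹)) * w := by group
        _ = w⁻¹ * (w * τ * w⁻¹ * x) * w := by rw [e]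
        _ = _ := by group
  have hu : Nat.card Ws = Nat.card Wt := by rw [← hconjs, card_cj]
  obtain ⟨g, hg⟩ := isConj_iff.1 (h.conj _ _ h.z_ord h.to')
  have hWtO : Wt ≤ cj O g := fun x hx => mem_cj.2
    (h.odd_cent hg (Subgroup.mem_centralizer_singleton_iff.1 hx.2) ((hW x).1 hx.1).2)
  have hAWt : A ≤ Wt := fun x hx =>
    ⟨hOW (mem_fixed.1 hx).1, Subgroup.mem_centralizer_singleton_iff.2 (mem_fixed.1 hx).2⟩
  obtain ⟨e, he⟩ := Subgroup.card_dvd_of_le hAWt
  have hdvd : e ∣ Nat.card (fixed O (w * τ)) := by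
    have := Subgroup.card_dvd_of_le hWtO
    rw [card_cj, he, ← h.fixed_mul] at this
    exact Nat.dvd_of_mul_dvd_mul_left Nat.card_pos this
  have hmain := hform W le_rfl hVW
  rw [hWz, hWV, ← hWt, ← hWs, hu, he] at hmain
  refine ⟨e, hdvd, Nat.eq_of_mul_eq_mul_right (pow_pos Nat.card_pos 2) (hmain.symm.trans (by ring)), ?_⟩
  intro hefull n hn
  have hfullt : ∀ x, x * τ = τ * x → ¬ 2 ∣ orderOf x → x ∈ W := by
    intro x hxt hxo
    have heq : Wt = cj O g := Subgroup.eq_of_le_of_card_ge hWtO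
      (by rw [card_cj, he, hefull, ← h.fixed_mul])
    exact (heq.ge (mem_cj.2 (h.odd_cent hg hxt hxo))).1
  have hfull : ∀ v ∈ V, v ≠ 1 → ∀ x, x * v = v * x → ¬ 2 ∣ orderOf x → x ∈ W := by
    intro v hv hv1 x hxv hxo
    rcases h.mem_four_iff.1 hv with e' | e' | e' | e'
    · exact absurd e' hv1
    · exact hOW ((h.memO x).2 ⟨e' ▸ hxv, hxo⟩)
    · exact hfullt x (e' ▸ hxv) hxo
    · subst e'
      rw [← h.wconj] at hxv
      have h1 : w⁻¹ * x * w * τ = τ * (w⁻¹ * x * w) := by
        calc w⁻¹ * x * w * τ = w⁻¹ * (x * (w * τ * w⁻¹)) * w := by group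
          _ = w⁻¹ * (w * τ * w⁻¹ * x) * w := by rw [hxv]
          _ = _ := by group
      have h2 := hnO w hwz _ (hfullt _ h1 (by
        rw [show w⁻¹ * x * w = MulAut.conj w⁻¹ x by simp, MulEquiv.orderOf_eq]; exact hxo))
      rwa [show w * (w⁻¹ * x * w) * w⁻¹ = x by group] at h2
  set E : Set G := {x | ¬ 2 ∣ orderOf x ∧ ∃ v ∈ V, v ≠ 1 ∧ x * v = v * x} with hE
  set L := Subgroup.closure E with hL
  have hLW : L ≤ W := (Subgroup.closure_le W).2 fun x ⟨hxo, v, hv, hv1, hxv⟩ => hfull v hv hv1 x hxv hxo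
  have hEconj : ∀ c : G, (∀ v ∈ V, c * v * c⁻¹ ∈ V) → ∀ x ∈ E, c * x * c⁻¹ ∈ E := by
    rintro c hc x ⟨hxo, v, hv, hv1, hxv⟩
    refine ⟨by rw [show c * x * c⁻¹ = MulAut.conj c x from rfl, MulEquiv.orderOf_eq]; exact hxo,
      c * v * c⁻¹, hc v hv, fun e' => hv1 (conj_eq_one_iff.1 e'), ?_⟩
    rw [conj_mul, conj_mul, hxv]
  have hLconj : ∀ c : G, (∀ v ∈ V, c * v * c⁻¹ ∈ V) → c ∈ Subgroup.normalizer (L : Set G) := by
    intro c hc
    refine mem_normalizer_of_cj_le ?_
    rw [cj, MonoidHom.map_closure, Subgroup.closure_le]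
    rintro _ ⟨x, hx, rfl⟩
    exact Subgroup.subset_closure (hEconj c hc x hx)
  have hLv : ∀ v ∈ V, v ≠ 1 → L ⊓ Subgroup.centralizer {v} = W ⊓ Subgroup.centralizer {v} := by
    intro v hv hv1
    refine le_antisymm (inf_le_inf_right _ hLW) fun x hx => ⟨Subgroup.subset_closure
      ⟨((hW x).1 hx.1).2, v, hv, hv1, Subgroup.mem_centralizer_singleton_iff.1 hx.2⟩, hx.2⟩
  have hLV : L ⊓ Subgroup.centralizer (V : Set G) = W ⊓ Subgroup.centralizer (V : Set G) := by
    refine le_antisymm (inf_le_inf_right _ hLW) fun x hx => ⟨Subgroup.subset_closure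
      ⟨((hW x).1 hx.1).2, τ, h.t_mem_four, h.t_ne, ?_⟩, hx.2⟩
    exact (Subgroup.mem_centralizer_iff.1 hx.2 τ h.t_mem_four).symm
  have hVL : V ≤ Subgroup.normalizer (L : Set G) := fun v hv => hLconj v fun v' hv' => by
    rw [h.four_comm hv hv', mul_inv_cancel_right]; exact hv'
  have hLform := hform L hLW hVL
  rw [hLv _ h.z_mem_four h.z_ne, hLv _ h.t_mem_four h.t_ne,
    hLv _ (mul_mem h.z_mem_four h.t_mem_four) h.zt_ne, hLV, hWz, hWV, ← hWt, ← hWs, hu, he] at hLform
  have hLeq : L = W := Subgroup.eq_of_le_of_card_ge hLW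
    (Nat.eq_of_mul_eq_mul_right (pow_pos Nat.card_pos 2) (hmain.symm.trans hLform)).le
  rw [← hLeq]
  exact hLconj n hn

theorem normalizer_ne_top [IsSimpleGroup G] (h : Ctx w τ O) {L : Subgroup G} (h1 : 1 < Nat.card L)
    (hodd : ¬ 2 ∣ Nat.card L) : Subgroup.normalizer (L : Set G) ≠ ⊤ := by
  intro e
  haveI : L.Normal := Subgroup.normalizer_eq_top_iff.1 e
  rcases IsSimpleGroup.eq_bot_or_eq_top_of_normal L inferInstance with e' | e'
  · rw [e', Subgroup.card_bot] at h1; omega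
  · refine hodd ?_
    rw [e', Subgroup.card_top, ← h.z_ord]
    exact orderOf_dvd_natCard _

set_option maxHeartbeats 1000000 in
/-- Both parts of the core cannot be nontrivial. -/
theorem not_both [IsSimpleGroup G] (hnc : ¬ IsCyclic G) (h : Ctx w τ O)
    (hle : Nat.card (fixed O (w * τ)) ≤ Nat.card (fixed O τ))
    (hb1 : 1 < Nat.card (fixed O (w * τ))) : False := by
  classical
  have ha1 : 1 < Nat.card (fixed O τ) := lt_of_lt_of_le hb1 hle
  obtain ⟨⟨x₀, hx₀⟩, hx₀'⟩ : ∃ x : fixed O τ, x ≠ 1 := by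
    haveI := Finite.one_lt_card_iff_nontrivial.1 ha1
    exact exists_ne 1
  obtain ⟨⟨x₁, hx₁⟩, hx₁'⟩ : ∃ x : fixed O (w * τ), x ≠ 1 := by
    haveI := Finite.one_lt_card_iff_nontrivial.1 hb1
    exact exists_ne 1
  obtain ⟨W, hW, hprod⟩ := h.cent_O_swap hx₀ (fun e => hx₀' (Subtype.ext e)) hx₁ (fun e => hx₁' (Subtype.ext e))
  obtain ⟨e, heb, hWe, hfull⟩ := h.w_formula hW
  obtain ⟨e', hea, hWe', hfull'⟩ := h.swap.w_formula hW
  rw [h.fixed_swap_swap] at hea hfull'
  have hee : e' = e := Nat.pow_left_injective (by norm_num)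
    (Nat.eq_of_mul_eq_mul_left Nat.card_pos (hWe'.symm.trans hWe))
  subst hee
  obtain ⟨hg1, hg2⟩ := h.order_bounds
  have hA := h.cent_bound ha1
  have hB := h.swap.cent_bound hb1
  rw [h.fixed_swap_swap] at hB
  have hNB := h.swap.normalizer_bound hb1
  have hm := h.fixed_mul
  set a := Nat.card (fixed O τ) with ha
  set b := Nat.card (fixed O (w * τ)) with hb
  set g := Nat.card G with hg
  have hb3 : 3 ≤ b := by
    rcases (show b = 2 ∨ 3 ≤ b by omega) with e | e
    · exact absurd (hm ▸ (e ▸ dvd_mul_left b a : (2 : ℕ) ∣ a * b)) h.odd_O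
    · exact e
  rw [← hm] at hWe
  have hprod' : 144 * a ^ 4 * b ^ 4 ≤ g * (2 * (a * b * e' ^ 2)) := by
    rw [← hWe]
    refine le_trans ?_ hprod
    calc 144 * a ^ 4 * b ^ 4 = (12 * a * b ^ 3) * (12 * b * a ^ 3) := by ring
      _ ≤ _ := Nat.mul_le_mul hA hB
  have hstar : 4 * (a ^ 2 * b ^ 2) ≤ 5 * ((a + b) ^ 2 * e' ^ 2) := by
    have h1 : 144 * a ^ 4 * b ^ 4 ≤ 90 * a * b * (a + b) ^ 2 * (2 * (a * b * e' ^ 2)) :=
      hprod'.trans (Nat.mul_le_mul_right _ hg1)
    have h2 : (36 * (a ^ 2 * b ^ 2)) * (4 * (a ^ 2 * b ^ 2)) ≤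
        (36 * (a ^ 2 * b ^ 2)) * (5 * ((a + b) ^ 2 * e' ^ 2)) := by linarith
    exact Nat.le_of_mul_le_mul_left h2 (by positivity)
  have heq : e' = b := by
    obtain ⟨k, hk⟩ := heb
    have h4 : (a + b) ^ 2 ≤ 4 * a ^ 2 := by nlinarith
    have h5 : 4 * a ^ 2 * (e' * k) ^ 2 ≤ 4 * a ^ 2 * (5 * e' ^ 2) := by
      rw [← hk]
      have := Nat.mul_le_mul_right (5 * e' ^ 2) h4
      linarith
    have hepos : 0 < e' := Nat.pos_of_ne_zero fun e0 => by rw [e0, zero_mul] at hk; omega
    have h6 : (e' * k) ^ 2 ≤ 5 * e' ^ 2 := Nat.le_of_mul_le_mul_left h5 (by positivity)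
    have h7 : k ^ 2 * e' ^ 2 ≤ 5 * e' ^ 2 := by linarith [mul_pow e' k 2]
    have h8 : k ^ 2 ≤ 5 := Nat.le_of_mul_le_mul_right h7 (by positivity)
    have hk2 : k ≤ 2 := by nlinarith
    interval_cases k
    · omega
    · omega
    · exfalso
      exact h.odd_O (by rw [← hm]; exact (Dvd.intro_left e' hk.symm).mul_left a)
  subst heq
  obtain ⟨k, hk⟩ := hea
  rcases k with _ | _ | _ | k
  · omega
  · -- the two parts have equal order
    rw [zero_add, mul_one] at hk
    set M := Subgroup.normalizer (W : Set G) with hM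
    have hOW : ∀ x ∈ O, x ∈ W := fun x hx =>
      (hW x).2 ⟨fun o ho => h.O_comm ho hx, ((h.memO x).1 hx).2⟩
    have hzM : ∀ c : G, c * w ^ 2 = w ^ 2 * c → c ∈ M := by
      intro c hc
      refine mem_normalizer_of_cj_le ?_
      rintro _ ⟨x, hx, rfl⟩
      obtain ⟨h1, h2⟩ := (hW x).1 hx
      refine (hW _).2 ⟨fun o ho => ?_, by
        rw [show (MulAut.conj c).toMonoidHom x = MulAut.conj c x from rfl, MulEquiv.orderOf_eq]; exact h2⟩
      have h3 := h.conjO ((show Commute c (w ^ 2) from hc).inv_left).eq ho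
      rw [inv_inv] at h3
      have h4 := h1 _ h3
      show o * (c * x * c⁻¹) = c * x * c⁻¹ * o
      calc o * (c * x * c⁻¹) = c * (c⁻¹ * o * c * x) * c⁻¹ := by group
        _ = c * (x * (c⁻¹ * o * c)) * c⁻¹ := by rw [h4]
        _ = _ := by group
    obtain ⟨n₁, hn₁, hn₁τ⟩ := h.exists_fuse
    obtain ⟨n₂, hn₂, hn₂τ⟩ := h.swap.exists_fuse
    have hn₁M : n₁ ∈ M := hfull rfl n₁ hn₁
    have hn₂M : n₂ ∈ M := hfull' hk.symm n₂ hn₂
    obtain ⟨P, hP⟩ := h.syl
    have hPM : (P : Subgroup G) ≤ M := fun x hx =>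
      hzM x (Subgroup.mem_centralizer_singleton_iff.1 (h.closure_le_cent (hP.le hx)))
    set w' : M := ⟨w, hPM (hP.ge (Subgroup.subset_closure (by simp)))⟩ with hw'
    set τ' : M := ⟨τ, hPM (hP.ge (Subgroup.subset_closure (by simp)))⟩ with hτ'
    have hgen : Subgroup.closure ({w', τ'} : Set M) = ((P.subtype hPM : Sylow 2 M) : Subgroup M) := by
      refine Subgroup.map_injective M.subtype_injective ?_
      rw [MonoidHom.map_closure, Sylow.coe_subtype, Subgroup.map_subgroupOf_eq_of_le hPM, hP]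
      congr 1
      simp [Set.image_insert_eq, w', τ']
    have hc1 : IsConj (w' ^ 2) τ' := by
      refine (isConj_iff.2 ⟨⟨n₁, hn₁M⟩, Subtype.ext ?_⟩ : IsConj τ' (w' ^ 2)).symm
      exact hn₁τ
    have hc2 : IsConj (w' ^ 2) (w' * τ') := by
      refine (isConj_iff.2 ⟨⟨n₂, hn₂M⟩, Subtype.ext ?_⟩ : IsConj (w' * τ') (w' ^ 2)).symm
      exact hn₂τ
    obtain ⟨X, -, -, hX, -, -, hX1, -, hord, -⟩ := order_data (P.subtype hPM)
      (w := w') (τ := τ') (by rw [← Subgroup.orderOf_coe]; exact h.wo)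
      (by rw [← Subgroup.orderOf_coe]; exact h.to') (Subtype.ext h.rel) hgen hc1 hc2
    have hsub : ∀ S : Set M, (w ^ 2) ∈ (fun x : M => (x : G)) '' S →
        Nat.card (Subgroup.centralizer S) =
          Nat.card (Subgroup.centralizer ((fun x : M => (x : G)) '' S)) := by
      intro S hS
      rw [card_sub_cent]
      suffices he : M ⊓ Subgroup.centralizer ((fun x : M => (x : G)) '' S) =
          Subgroup.centralizer ((fun x : M => (x : G)) '' S) by rw [he]
      exact inf_eq_right.2 fun c hc => hzM c (Subgroup.mem_centralizer_iff.1 hc _ hS).symm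
    rw [hsub {w' ^ 2} (by simp [w']), hsub {w' ^ 2, τ'} (by simp [w']),
      hsub {w' ^ 2, w' * τ'} (by simp [w'])] at hord
    simp only [Set.image_insert_eq, Set.image_singleton, Subgroup.coe_pow, Subgroup.coe_mul, w', τ'] at hord
    rw [h.cz, h.card_cent_pair, h.swap.card_cent_pair, ← hm, ← ha, ← hb, hk] at hord
    obtain ⟨h1, -⟩ := rho_bounds hX hX1
    have hbq : (b : ℚ) ≠ 0 := Nat.cast_ne_zero.2 (by omega)
    have hMeq : (Nat.card M : ℤ) * (X - 1) ^ 2 = 256 * (b : ℤ) ^ 4 * (X * (X + 1)) := by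
      suffices hQ : (((Nat.card M : ℤ) * (X - 1) ^ 2 : ℤ) : ℚ) =
          ((256 * (b : ℤ) ^ 4 * (X * (X + 1)) : ℤ) : ℚ) by exact_mod_cast hQ
      push_cast at hord ⊢
      rw [hord]
      field_simp
      ring
    have hMge : 168 * b ^ 4 ≤ Nat.card M := by
      have hpos : (0 : ℤ) < (X - 1) ^ 2 := by
        have : X - 1 ≠ 0 := by omega
        positivity
      have key : (168 * (b : ℤ) ^ 4) * (X - 1) ^ 2 ≤ (Nat.card M : ℤ) * (X - 1) ^ 2 := by
        rw [hMeq]
        linarith [mul_le_mul_of_nonneg_left h1 (show (0 : ℤ) ≤ 8 * (b : ℤ) ^ 4 by positivity)]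
      exact_mod_cast le_of_mul_le_mul_right key hpos
    rw [hk] at hg1
    have hgle : g ≤ 360 * b ^ 4 := hg1.trans (le_of_eq (by ring))
    have hi : M.index ≤ 2 := by
      by_contra hi
      have h3 : 3 * (168 * b ^ 4) ≤ g := by
        rw [hg, ← M.index_mul_card]; exact Nat.mul_le_mul (by omega) hMge
      have : 0 < b ^ 4 := pow_pos (by omega) 4
      omega
    refine false_of_index_le_two hnc (h.normalizer_ne_top (L := W) ?_ fun hd => ?_) hi
    · rw [hWe]
      have h1 : 1 < a * b := Nat.one_lt_mul_iff.2 ⟨by omega, by omega, Or.inl (by omega)⟩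
      calc 1 < a * b := h1
        _ ≤ a * b * b ^ 2 := Nat.le_mul_of_pos_right _ (pow_pos (by omega) 2)
    · haveI : Fact (Nat.Prime 2) := ⟨Nat.prime_two⟩
      obtain ⟨x, hx⟩ := exists_prime_orderOf_dvd_card' (G := W) 2 hd
      exact ((hW x).1 x.2).2 (by rw [Subgroup.orderOf_coe, hx])
  · exfalso
    exact h.odd_O (by
      rw [← hm, hk]
      exact ((dvd_mul_left 2 b).mul_right b : 2 ∣ b * (0 + 1 + 1) * b))
  · -- the second part is much smaller
    have hab : 3 * b ≤ a := by rw [hk]; nlinarith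
    set N := Subgroup.normalizer (fixed O (w * τ) : Set G) with hN
    have hNge : 24 * b * a ^ 3 ≤ Nat.card N := by linarith
    have hi : N.index ≤ 6 := by
      by_contra hi
      have h3 : 7 * (24 * b * a ^ 3) ≤ g := by
        rw [hg, ← N.index_mul_card]; exact Nat.mul_le_mul (by omega) hNge
      have h4 : 9 * (a + b) ^ 2 ≤ 16 * a ^ 2 := by nlinarith
      have h5 := Nat.mul_le_mul_left (10 * a * b) h4
      have h7 : 0 < a ^ 3 * b := Nat.mul_pos (pow_pos (by omega) 3) (by omega)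
      linarith
    have hN1 : N ≠ ⊤ := h.normalizer_ne_top hb1 fun hd => h.odd_O (by
      rw [← hm]; exact hd.mul_left a)
    have hle6 : g ≤ 720 := (card_le_factorial hN1).trans (Nat.factorial_le hi)
    have h5 : 42 * 9 * 3 * (9 + 3) ^ 2 ≤ 42 * a * b * (a + b) ^ 2 :=
      Nat.mul_le_mul (Nat.mul_le_mul (Nat.mul_le_mul le_rfl (by omega)) hb3)
        (Nat.pow_le_pow_left (by omega) 2)
    omega

/-- The exceptional arithmetical solution does not occur. -/
theorem not_7560 [IsSimpleGroup G] (h : Ctx w τ O) (hb : Nat.card (fixed O (w * τ)) = 1)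
    (hg : Nat.card G = 7560) (hm : Nat.card O = 5) : False := by
  classical
  haveI : Fact (Nat.Prime 5) := ⟨by norm_num⟩
  have ha : Nat.card (fixed O τ) = 5 := by rw [← hm, ← h.fixed_mul, hb, mul_one]
  have hAO : fixed O τ = O := Subgroup.eq_of_le_of_card_ge inf_le_left (by rw [hm, ha])
  obtain ⟨⟨x₀, hx₀⟩, hx₀'⟩ : ∃ x : fixed O τ, x ≠ 1 := by
    haveI := Finite.one_lt_card_iff_nontrivial.1 (show 1 < Nat.card (fixed O τ) by omega)
    exact exists_ne 1
  obtain ⟨x₁, x₂, x₃, ε, p1, p2, p3, hε, c1, c2, c3, hsum, d1, d2, d3, heq⟩ :=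
    h.cent_data hx₀ (fun e => hx₀' (Subtype.ext e))
  have hC := h.cent_bound (by omega : 1 < Nat.card (fixed O τ))
  have hN := h.normalizer_bound (by omega : 1 < Nat.card (fixed O τ))
  rw [hb, ha] at heq hC
  set H := Subgroup.centralizer (fixed O τ : Set G) with hH
  set N := Subgroup.normalizer (fixed O τ : Set G) with hNdef
  have hP5 : Nat.card (fixed O τ) = 5 ^ (Nat.card G).factorization 5 := by
    rw [ha, hg, show (7560 : ℕ) = 5 * 1512 by norm_num, Nat.factorization_mul (by norm_num) (by norm_num),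
      Finsupp.add_apply, Nat.Prime.factorization_self (by norm_num),
      Nat.factorization_eq_zero_of_not_dvd (by norm_num)]
    norm_num
  set S5 : Sylow 5 G := Sylow.ofCard (fixed O τ) hP5 with hS5
  have hn5 : N.index % 5 = 1 := by
    have h1 := S5.card_eq_index_normalizer
    have h2 := card_sylow_modEq_one 5 G
    rw [h1] at h2
    exact h2
  have h40 : 40 ∣ Nat.card N := by
    have h1 : Subgroup.centralizer ({w ^ 2} : Set G) ≤ N := fun c hc => mem_normalizer_of_cj_le (by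
      rintro _ ⟨x, hx, rfl⟩
      rw [hAO] at hx ⊢
      exact h.conjO (Subgroup.mem_centralizer_singleton_iff.1 hc) hx)
    have h2 := Subgroup.card_dvd_of_le h1
    rw [h.cz, hm] at h2
    exact h2
  have hidx : N.index * Nat.card N = 7560 := by rw [Subgroup.index_mul_card, hg]
  have hne : N ≠ ⊤ := h.normalizer_ne_top (by omega) (by rw [ha]; norm_num)
  have hne1 : N.index ≠ 1 := fun e => hne (Subgroup.index_eq_one.1 e)
  obtain ⟨t, ht⟩ := h40
  rw [ht] at hidx hN
  set i := N.index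
  have hi63 : i ≤ 63 := by
    have : 3 ≤ t := by omega
    nlinarith
  have hi21 : i = 21 := by
    have hd : i ∣ 189 := ⟨t, by linarith⟩
    have hi0 : 0 < i := Nat.pos_of_dvd_of_pos hd (by norm_num)
    interval_cases i <;> omega
  obtain rfl : t = 9 := by rw [hi21] at hidx; omega
  -- the centralizer
  have hHN : H ≤ N := Subgroup.centralizer_le_normalizer _
  have hk : H.relIndex N ∣ 4 := by
    have key := Subgroup.card_dvd_of_injective _
      (QuotientGroup.kerLift_injective (fixed O τ).normalizerMonoidHom)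
    rw [Subgroup.normalizerMonoidHom_ker, ← Subgroup.index, ← Subgroup.relIndex] at key
    haveI : IsCyclic (fixed O τ) := isCyclic_of_prime_card (p := 5) ha
    rw [IsCyclic.card_mulAut, ha, Nat.totient_prime (by norm_num)] at key
    exact key
  have hHk : H.relIndex N * Nat.card H = 360 := by
    have := (H.subgroupOf N).index_mul_card
    rwa [Nat.card_congr (Subgroup.subgroupOfEquivOfLe hHN).toEquiv, ht] at this
  have h4H : 4 ∣ Nat.card H := by
    rw [← h.card_four]
    exact Subgroup.card_dvd_of_le fun v hv => Subgroup.mem_centralizer_iff.2 fun x hx =>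
      h.fixed_comm hx hv
  have hH180 : Nat.card H = 180 := by
    obtain ⟨q, hq⟩ := h4H
    have hk4 := Nat.le_of_dvd (by norm_num) hk
    rw [hq] at hHk hN ⊢
    generalize H.relIndex N = k at hk hk4 hHk
    interval_cases k <;> omega
  rw [hH180] at d1 d2 d3 heq
  push_cast at heq
  have hfil : ∀ x : ℕ, x ∣ 180 → x % 4 = 1 → x = 1 ∨ x = 5 ∨ x = 9 ∨ x = 45 := by
    intro x hx hx4
    have : x ∈ (Nat.divisors 180).filter (fun x => x % 4 = 1) :=
      Finset.mem_filter.2 ⟨Nat.mem_divisors.2 ⟨hx, by norm_num⟩, hx4⟩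
    rw [show (Nat.divisors 180).filter (fun x => x % 4 = 1) = {1, 5, 9, 45} by decide] at this
    simpa using this
  have hfil3 : ∀ x : ℕ, x ∣ 180 → x % 4 = 3 → x = 3 ∨ x = 15 := by
    intro x hx hx4
    have : x ∈ (Nat.divisors 180).filter (fun x => x % 4 = 3) :=
      Finset.mem_filter.2 ⟨Nat.mem_divisors.2 ⟨hx, by norm_num⟩, hx4⟩
    rw [show (Nat.divisors 180).filter (fun x => x % 4 = 3) = {3, 15} by decide] at this
    simpa using this
  have e1 := hfil x₁ d1 (by omega)
  have e3 := hfil3 x₃ d3 (by omega)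
  rcases hε with rfl | rfl
  · have e2 := hfil x₂ d2 (by omega)
    rcases e1 with rfl | rfl | rfl | rfl <;> rcases e2 with rfl | rfl | rfl | rfl <;>
      rcases e3 with rfl | rfl <;> first | omega | (norm_num at heq)
  · have e2 := hfil3 x₂ d2 (by omega)
    rcases e1 with rfl | rfl | rfl | rfl <;> rcases e2 with rfl | rfl <;>
      rcases e3 with rfl | rfl <;> first | omega | (norm_num at heq)

theorem main_aux [IsSimpleGroup G] (hnc : ¬ IsCyclic G) (h : Ctx w τ O)
    (hle : Nat.card (fixed O (w * τ)) ≤ Nat.card (fixed O τ)) :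
    Nat.card O = 1 ∨ Nat.card G = 2520 := by
  rcases (show Nat.card (fixed O (w * τ)) = 1 ∨ 1 < Nat.card (fixed O (w * τ)) by
    have := Nat.card_pos (α := fixed O (w * τ)); omega) with hb | hb
  · rcases eq_or_ne (Nat.card O) 1 with hm | hm
    · exact Or.inl hm
    right
    obtain ⟨X, Y, Z, hX, hY, hZ, hX1, hsum, hgX, hS⟩ := h.data
    have hm' := h.fixed_mul
    rw [hb, mul_one] at hm'
    rw [hb, hm'] at hgX
    push_cast at hgX
    have hodd : Nat.card O % 2 = 1 := Nat.two_dvd_ne_zero.1 h.odd_O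
    rcases b_one (g := (Nat.card G : ℤ)) (m := (Nat.card O : ℤ)) (by omega) (by omega) hX hY hZ hX1 hsum
      (by linear_combination hgX) hS with ⟨hg, -⟩ | ⟨hg, hm5⟩
    · exact_mod_cast hg
    · exact (h.not_7560 hb (by exact_mod_cast hg) (by exact_mod_cast hm5)).elim
  · exact (h.not_both hnc hle hb).elim

/-- The order of the group. -/
theorem main [IsSimpleGroup G] (hnc : ¬ IsCyclic G) (h : Ctx w τ O) :
    Nat.card O = 1 ∨ Nat.card G = 2520 := by
  rcases le_total (Nat.card (fixed O (w * τ))) (Nat.card (fixed O τ)) with hle | hle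
  · exact h.main_aux hnc hle
  · exact h.swap.main_aux hnc (by rwa [h.fixed_swap_swap])

end Ctx

end Cfsg.Agent.CentFour
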