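import Cfsg.Agent.Lib.Char.CentFour.Basic
import Cfsg.Agent.Lib.Char.LocalRing
import Cfsg.Agent.S4479
import Cfsg.Agent.S0948
import Cfsg.Agent.Lib.Char.FourOrder

/-!
# The centralizer of the part of the core fixed by a reflection
-/

set_option autoImplicit false
set_option linter.unusedSectionVars false
set_option linter.style.haveILetI false

namespace Cfsg.Agent.CentFour

open Cfsg Cfsg.Agent.Fusion

universe u

variable {G : Type u} [Group G] [Finite G] {w τ : G} {O : Subgroup G}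

theorem card_sub_cent (H : Subgroup G) (S : Set H) :
    Nat.card (Subgroup.centralizer S) =
      Nat.card (H ⊓ Subgroup.centralizer ((fun x : H => (x : G)) '' S) : Subgroup G) := by
  have e : (Subgroup.centralizer S).map H.subtype =
      H ⊓ Subgroup.centralizer ((fun x : H => (x : G)) '' S) := by
    ext g
    constructor
    · rintro ⟨x, hx, rfl⟩
      refine ⟨x.2, Subgroup.mem_centralizer_iff.2 ?_⟩
      rintro _ ⟨y, hy, rfl⟩
      exact congrArg Subtype.val (Subgroup.mem_centralizer_iff.1 hx y hy)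
    · rintro ⟨hg, hgc⟩
      exact ⟨⟨g, hg⟩, Subgroup.mem_centralizer_iff.2 fun y hy =>
        Subtype.ext (Subgroup.mem_centralizer_iff.1 hgc _ ⟨y, hy, rfl⟩), rfl⟩
  rw [← e, Subgroup.card_map_of_injective H.subtype_injective]

/-- The bound for the degree expression. -/
theorem alpha_bound {x₁ x₂ x₃ ε : ℤ} (h1 : 0 < x₁) (h2 : 0 < x₂) (h3 : 0 < x₃)
    (hε : ε = 1 ∨ ε = -1) (c2 : 4 ∣ x₂ - ε) (hsum : 1 + x₁ + ε * x₂ - x₃ = 0) :
    3 * ((x₁ + 1) * (x₂ + ε) * (x₃ - 1)) ≤ 8 * (x₁ * x₂ * x₃) := by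
  rcases hε with rfl | rfl
  · obtain ⟨p, rfl⟩ : ∃ p, x₁ = p + 1 := ⟨x₁ - 1, by ring⟩
    obtain ⟨q, rfl⟩ : ∃ q, x₂ = q + 1 := ⟨x₂ - 1, by ring⟩
    obtain rfl : x₃ = p + q + 3 := by omega
    have hp : 0 ≤ p := by omega
    have hq : 0 ≤ q := by omega
    nlinarith [mul_nonneg hp hq, mul_nonneg (mul_nonneg hp hp) hq, mul_nonneg (mul_nonneg hp hq) hq]
  · have hx2 : 3 ≤ x₂ := by omega
    have h4 : (x₂ + -1) * (x₃ - 1) ≤ x₂ * x₃ := by nlinarith
    have h5 : 3 * (x₁ + 1) ≤ 8 * x₁ := by omega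
    calc 3 * ((x₁ + 1) * (x₂ + -1) * (x₃ - 1)) = (3 * (x₁ + 1)) * ((x₂ + -1) * (x₃ - 1)) := by ring
      _ ≤ (8 * x₁) * (x₂ * x₃) := mul_le_mul h5 h4 (by
          have : 0 ≤ x₃ - 1 := by omega
          have : 0 ≤ x₂ + -1 := by omega
          positivity) (by positivity)
      _ = _ := by ring

namespace Ctx

theorem odd_cent (h : Ctx w τ O) {y g x : G} (hg : g * w ^ 2 * g⁻¹ = y) (hxy : x * y = y * x)
    (hx : ¬ 2 ∣ orderOf x) : g⁻¹ * x * g ∈ O := by
  rw [h.memO]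
  refine ⟨?_, ?_⟩
  · rw [← hg] at hxy
    calc g⁻¹ * x * g * w ^ 2 = g⁻¹ * (x * (g * w ^ 2 * g⁻¹)) * g := by group
      _ = g⁻¹ * (g * w ^ 2 * g⁻¹ * x) * g := by rw [hxy]
      _ = w ^ 2 * (g⁻¹ * x * g) := by group
  · have : g⁻¹ * x * g = MulAut.conj g⁻¹ x := by simp
    rw [this, MulEquiv.orderOf_eq]
    exact hx

theorem no_eight (h : Ctx w τ O) {Q : Subgroup G} (hQ : Nat.card Q = 8) {x : G} (hx1 : x ≠ 1)
    (hx : ¬ 2 ∣ orderOf x) (hc : ∀ q ∈ Q, x * q = q * x) : False := by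
  haveI : Fact (Nat.Prime 2) := ⟨Nat.prime_two⟩
  obtain ⟨P, hP⟩ := h.syl
  obtain ⟨c, -, hle⟩ := (sylIn_top P).conj_le
    (IsPGroup.of_card (p := 2) (n := 3) (by rw [hQ]; norm_num) : IsPGroup 2 Q) le_top
  have heq : cj Q c = (P : Subgroup G) :=
    Subgroup.eq_of_le_of_card_ge hle (by rw [card_cj, hQ, hP, h.card_closure])
  have hw : w ∈ cj Q c := heq.ge (hP.ge (Subgroup.subset_closure (by simp)))
  rw [mem_cj] at hw
  have e := hc _ hw
  refine hx1 ?_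
  have h1 := h.eq_one_of_cw (x := c * x * c⁻¹)
    (by rw [show c * x * c⁻¹ = MulAut.conj c x from rfl, MulEquiv.orderOf_eq]; exact hx) (by
      calc c * x * c⁻¹ * w = c * (x * (c⁻¹ * w * c)) * c⁻¹ := by group
        _ = c * ((c⁻¹ * w * c) * x) * c⁻¹ := by rw [e]
        _ = w * (c * x * c⁻¹) := by group)
  exact conj_eq_one_iff.1 h1

theorem exists_fuse (h : Ctx w τ O) :
    ∃ n : G, (∀ v ∈ four w τ, n * v * n⁻¹ ∈ four w τ) ∧ n * τ * n⁻¹ = w ^ 2 := by
  haveI : Fact (Nat.Prime 2) := ⟨Nat.prime_two⟩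
  obtain ⟨P, hP⟩ := h.syl
  obtain ⟨g, hg⟩ := isConj_iff.1 (h.conj (w ^ 2) τ h.z_ord h.to')
  set V := four w τ with hV
  have hV2 : IsPGroup 2 V := IsPGroup.of_card (p := 2) (n := 2) (by rw [h.card_four]; norm_num)
  set Ct := Subgroup.centralizer ({τ} : Set G) with hCt
  obtain ⟨Q, hQ, hVQ⟩ := exists_sylIn_ge hV2 (show V ≤ Ct from inf_le_right)
  -- the order of `Q`
  have hPz : (P : Subgroup G) ≤ Subgroup.centralizer ({w ^ 2} : Set G) := hP.le.trans h.closure_le_cent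
  have hPg : cj (P : Subgroup G) g ≤ Ct := by
    rintro _ ⟨x, hx, rfl⟩
    rw [hCt, Subgroup.mem_centralizer_singleton_iff, ← hg]
    have := Subgroup.mem_centralizer_singleton_iff.1 (hPz hx)
    simp only [MulEquiv.coe_toMonoidHom, MulAut.conj_apply]
    calc g * x * g⁻¹ * (g * w ^ 2 * g⁻¹) = g * (x * w ^ 2) * g⁻¹ := by group
      _ = g * (w ^ 2 * x) * g⁻¹ := by rw [this]
      _ = _ := by group
  have hQ8 : Nat.card Q = 8 := by
    refine le_antisymm ?_ ?_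
    · rw [← h.card_closure, ← hP]
      exact (sylIn_top P).card_le hQ.isPGroup le_top
    · rw [← h.card_closure, ← hP, ← card_cj (P : Subgroup G) g]
      exact hQ.card_le (isPGroup_cj P.isPGroup' g) hPg
  have hnorm : ∀ {T : Subgroup G}, Nat.card T = 8 → V ≤ T → T ≤ Subgroup.normalizer (V : Set G) := by
    intro T hT hVT
    have hidx : (V.subgroupOf T).index = 2 := by
      have := (V.subgroupOf T).index_mul_card
      rw [Nat.card_congr (Subgroup.subgroupOfEquivOfLe hVT).toEquiv, h.card_four, hT] at this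
      omega
    haveI := Subgroup.normal_of_index_eq_two hidx
    exact (Subgroup.normal_subgroupOf_iff_le_normalizer hVT).1 inferInstance
  have hPN := hnorm (by rw [hP, h.card_closure]) (hP.ge.trans' inf_le_left)
  have hQN := hnorm hQ8 hVQ
  obtain ⟨n, hn, hnQ⟩ := ((sylIn_top P).mono hPN le_top).conj_le hQ.isPGroup hQN
  have heq : cj Q n = (P : Subgroup G) :=
    Subgroup.eq_of_le_of_card_ge hnQ (by rw [card_cj, hQ8, hP, h.card_closure])
  have hnV : ∀ v ∈ V, n * v * n⁻¹ ∈ V := fun v hv => (Subgroup.mem_normalizer_iff.1 hn v).1 hv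
  refine ⟨n, hnV, ?_⟩
  have hwP : w ∈ (P : Subgroup G) := hP.ge (Subgroup.subset_closure (by simp))
  rw [← heq, mem_cj] at hwP
  have e := Subgroup.mem_centralizer_singleton_iff.1 (hQ.le hwP)
  have e2 : w * (n * τ * n⁻¹) = n * τ * n⁻¹ * w := by
    calc w * (n * τ * n⁻¹) = n * ((n⁻¹ * w * n) * τ) * n⁻¹ := by group
      _ = n * (τ * (n⁻¹ * w * n)) * n⁻¹ := by rw [e]
      _ = n * τ * n⁻¹ * w := by group
  rcases h.mem_four_iff.1 (hnV τ h.t_mem_four) with e' | e' | e' | e'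
  · exact absurd (conj_eq_one_iff.1 e') h.t_ne
  · exact e'
  · exfalso
    rw [e'] at e2
    have := h.wconj
    rw [e2, mul_inv_cancel_right] at this
    exact h.z_ne (mul_eq_right.1 this.symm)
  · exfalso
    rw [e'] at e2
    have h1 : w * τ = τ * w := by
      refine mul_left_cancel (a := w ^ 2) ?_
      rw [← mul_assoc, ← (Commute.self_pow w 2).eq, mul_assoc, e2, mul_assoc]
    have := h.wconj
    rw [h1, mul_inv_cancel_right] at this
    exact h.z_ne (mul_eq_right.1 this.symm)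

theorem mem_fixed_of_odd (h : Ctx w τ O) {x : G} (hx : ¬ 2 ∣ orderOf x) (h1 : x * w ^ 2 = w ^ 2 * x)
    (h2 : x * τ = τ * x) : x ∈ fixed O τ :=
  mem_fixed.2 ⟨(h.memO x).2 ⟨h1, hx⟩, h2⟩

/-- The element normalizing the four group normalizes the fixed part. -/
theorem fuse_fixed (h : Ctx w τ O) {n : G} (hn : ∀ v ∈ four w τ, n * v * n⁻¹ ∈ four w τ) :
    ∀ x ∈ fixed O τ, n⁻¹ * x * n ∈ fixed O τ := by
  intro x hx
  have hcomm : ∀ v ∈ four w τ, n⁻¹ * x * n * v = v * (n⁻¹ * x * n) := by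
    intro v hv
    have := h.fixed_comm hx (hn v hv)
    calc n⁻¹ * x * n * v = n⁻¹ * (x * (n * v * n⁻¹)) * n := by group
      _ = n⁻¹ * ((n * v * n⁻¹) * x) * n := by rw [this]
      _ = _ := by group
  refine h.mem_fixed_of_odd ?_ (hcomm _ h.z_mem_four) (hcomm _ h.t_mem_four)
  rw [show n⁻¹ * x * n = MulAut.conj n⁻¹ x by simp, MulEquiv.orderOf_eq]
  exact ((h.memO x).1 (mem_fixed.1 hx).1).2

/-- The centralizer of the fixed part, from the order formula for a Klein Sylow 2-subgroup. -/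
theorem cent_data (h : Ctx w τ O) {x₀ : G} (hx0 : x₀ ∈ fixed O τ) (hx0' : x₀ ≠ 1) :
    ∃ x₁ x₂ x₃ : ℕ, ∃ ε : ℤ, 0 < x₁ ∧ 0 < x₂ ∧ 0 < x₃ ∧ (ε = 1 ∨ ε = -1) ∧
      (4 : ℤ) ∣ (x₁ : ℤ) - 1 ∧ (4 : ℤ) ∣ (x₂ : ℤ) - ε ∧ (4 : ℤ) ∣ (x₃ : ℤ) + 1 ∧
      1 + (x₁ : ℤ) + ε * x₂ - x₃ = 0 ∧
      x₁ ∣ Nat.card (Subgroup.centralizer (fixed O τ : Set G)) ∧
      x₂ ∣ Nat.card (Subgroup.centralizer (fixed O τ : Set G)) ∧
      x₃ ∣ Nat.card (Subgroup.centralizer (fixed O τ : Set G)) ∧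
      (Nat.card (Subgroup.centralizer (fixed O τ : Set G)) : ℤ) * (((x₁ : ℤ) + 1) * (x₂ + ε) * (x₃ - 1)) =
        32 * (Nat.card (fixed O τ)) * (Nat.card (fixed O (w * τ))) ^ 3 * ((x₁ : ℤ) * x₂ * x₃) := by
  classical
  haveI : Fact (Nat.Prime 2) := ⟨Nat.prime_two⟩
  set A := fixed O τ with hA
  set H := Subgroup.centralizer (A : Set G) with hH
  set V := four w τ with hV
  have hxodd := ((h.memO x₀).1 (mem_fixed.1 hx0).1).2
  have hVH : V ≤ H := fun v hv => Subgroup.mem_centralizer_iff.2 fun x hx => h.fixed_comm hx hv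
  have hV4 : Nat.card V = 4 := h.card_four
  -- the Sylow subgroup
  obtain ⟨P, hP⟩ := h.syl
  obtain ⟨Q, hQ, hVQ⟩ := exists_sylIn_ge (p := 2)
    (IsPGroup.of_card (p := 2) (n := 2) (by rw [hV4]; norm_num) : IsPGroup 2 V) hVH
  have hQ4 : Nat.card Q = 4 := by
    obtain ⟨k, hk⟩ := IsPGroup.iff_card.1 hQ.isPGroup
    have h1 : Nat.card Q ≤ 8 := by
      rw [← h.card_closure, ← hP]; exact (sylIn_top P).card_le hQ.isPGroup le_top
    have h2 := Subgroup.card_le_of_le hVQ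
    rw [hV4, hk] at h2
    rw [hk] at h1 ⊢
    have hk3 : k ≤ 3 := by
      by_contra hc
      have := Nat.pow_le_pow_right two_pos (show 4 ≤ k by omega)
      omega
    interval_cases k
    · norm_num at h2
    · norm_num at h2
    · norm_num
    · exact (h.no_eight (Q := Q) (by rw [hk]; norm_num) hx0' hxodd fun q hq =>
        Subgroup.mem_centralizer_iff.1 (hQ.le hq) x₀ hx0).elim
  obtain rfl : V = Q := Subgroup.eq_of_le_of_card_ge hVQ (by rw [hV4, hQ4])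
  obtain ⟨PH, hPH⟩ := hQ.exists_sylow_subgroupOf
  have hPH4 : Nat.card (PH : Subgroup H) = 4 := by
    rw [hPH, Nat.card_congr (Subgroup.subgroupOfEquivOfLe hVH).toEquiv, hV4]
  have hHcard : Nat.card H = 4 * (PH : Subgroup H).index := by
    rw [← hPH4, Subgroup.card_mul_index]
  have hodd : Odd (PH : Subgroup H).index :=
    Nat.not_even_iff_odd.1 fun he => PH.not_dvd_index (even_iff_two_dvd.1 he)
  set J : H := ⟨w ^ 2, hVH h.z_mem_four⟩ with hJ
  have hJ2 : orderOf J = 2 := by rw [← Subgroup.orderOf_coe]; exact h.z_ord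
  have hJP : J ∈ (PH : Subgroup H) := by rw [hPH, Subgroup.mem_subgroupOf]; exact h.z_mem_four
  -- fusion in `H`
  obtain ⟨n, hn, hnt⟩ := h.exists_fuse
  set e₀ := w * n * w⁻¹ * n⁻¹ with he₀
  have he₀H : e₀ ∈ H := by
    refine Subgroup.mem_centralizer_iff.2 fun x hx => ?_
    have hy := h.fuse_fixed hn x hx
    have hxO := (mem_fixed.1 (show x ∈ A from hx)).1
    have hwinv : w⁻¹ * (n⁻¹ * x * n) * w = (n⁻¹ * x * n)⁻¹ := by
      have := h.w_inv (inv_mem (mem_fixed.1 hy).1)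
      rw [inv_inv] at this
      calc w⁻¹ * (n⁻¹ * x * n) * w = w⁻¹ * (w * (n⁻¹ * x * n)⁻¹ * w⁻¹) * w := by rw [this]
        _ = _ := by group
    have key : e₀⁻¹ * x * e₀ = x := by
      have h1 : w⁻¹ * x * w = x⁻¹ := by
        have := h.w_inv (inv_mem hxO)
        rw [inv_inv] at this
        calc w⁻¹ * x * w = w⁻¹ * (w * x⁻¹ * w⁻¹) * w := by rw [this]
          _ = _ := by group
      calc e₀⁻¹ * x * e₀ = n * w * (n⁻¹ * (w⁻¹ * x * w) * n) * w⁻¹ * n⁻¹ := by rw [he₀]; group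
        _ = n * w * (n⁻¹ * x * n)⁻¹ * w⁻¹ * n⁻¹ := by rw [h1]; group
        _ = n * (w * (n⁻¹ * x * n)⁻¹ * w⁻¹) * n⁻¹ := by group
        _ = x := by rw [h.w_inv (inv_mem (mem_fixed.1 hy).1), inv_inv]; group
    calc x * e₀ = e₀ * (e₀⁻¹ * x * e₀) := by group
      _ = e₀ * x := by rw [key]
  have hne : e₀ * w ^ 2 * e₀⁻¹ ∈ V ∧ e₀ * w ^ 2 * e₀⁻¹ ≠ w ^ 2 := by
    have hwz : w⁻¹ * w ^ 2 * w = w ^ 2 := by
      rw [mul_assoc, ((Commute.self_pow w 2).symm).eq, inv_mul_cancel_left]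
    have hnz : n⁻¹ * w ^ 2 * n = τ := by rw [← hnt]; group
    have hwi : w⁻¹ * τ * w = w ^ 2 * τ := by
      calc w⁻¹ * τ * w = w⁻¹ * (w ^ 2 * (w ^ 2 * τ)) * w := by rw [← mul_assoc (w ^ 2), h.zz, one_mul]
        _ = (w⁻¹ * w ^ 2 * w) * (w⁻¹ * (w * τ * w⁻¹) * w) := by rw [h.wconj]; group
        _ = w ^ 2 * τ := by rw [hwz]; group
    have e1 : e₀ * w ^ 2 * e₀⁻¹ = w * (n * (w ^ 2 * τ) * n⁻¹) * w⁻¹ := by
      calc e₀ * w ^ 2 * e₀⁻¹ = w * (n * (w⁻¹ * (n⁻¹ * w ^ 2 * n) * w) * n⁻¹) * w⁻¹ := by rw [he₀]; group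
        _ = _ := by rw [hnz, hwi]
    rw [e1]
    have hzt : w ^ 2 * τ ∈ V := mul_mem h.z_mem_four h.t_mem_four
    have hwt : w * (w ^ 2 * τ) * w⁻¹ = τ := by
      calc w * (w ^ 2 * τ) * w⁻¹ = w ^ 2 * (w * τ * w⁻¹) := by rw [pow_two]; group
        _ = τ := by rw [h.wconj, ← mul_assoc, h.zz, one_mul]
    rcases h.mem_four_iff.1 (hn _ hzt) with e | e | e | e
    · exact absurd (conj_eq_one_iff.1 e) h.zt_ne
    · exfalso
      exact h.z_ne (mul_eq_right.1 (mul_left_cancel (mul_right_cancel (e.trans hnt.symm))))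
    · rw [e, h.wconj]
      exact ⟨hzt, fun e' => h.t_ne (mul_eq_left.1 e')⟩
    · rw [e, hwt]
      exact ⟨h.t_mem_four, fun e' => h.zt_ne (by rw [e', h.zz])⟩
  have hncomp : ¬ ∃ N : Subgroup H, N.Normal ∧ Nat.card N = (PH : Subgroup H).index := by
    rintro ⟨N, hN, hNc⟩
    have hc : N.IsComplement' (PH : Subgroup H) := by
      refine Subgroup.isComplement'_of_coprime (by rw [hNc, hPH4, hHcard, mul_comm]) ?_
      rw [hNc, hPH4]
      exact ((Nat.coprime_two_right.2 hodd)).pow_right 2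
    set e' : H := ⟨e₀, he₀H⟩ with he'
    have hd1 : e' * J * e'⁻¹ * J⁻¹ ∈ N := by
      rw [← QuotientGroup.eq_one_iff]
      have hq4 : Nat.card (H ⧸ N) = 2 ^ 2 := by
        rw [← Subgroup.index_eq_card, hc.symm.index_eq_card, hPH4]; norm_num
      have hcm := IsPGroup.commutative_of_card_eq_prime_sq hq4 (e' : H ⧸ N) (J : H ⧸ N)
      simp only [QuotientGroup.mk_mul, QuotientGroup.mk_inv]
      rw [hcm]; group
    have hd2 : e' * J * e'⁻¹ * J⁻¹ ∈ (PH : Subgroup H) := by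
      rw [hPH, Subgroup.mem_subgroupOf]
      exact mul_mem hne.1 (inv_mem h.z_mem_four)
    have hd : e' * J * e'⁻¹ * J⁻¹ = 1 := Subgroup.mem_bot.1 (hc.disjoint.le_bot ⟨hd1, hd2⟩)
    exact hne.2 (congrArg Subtype.val (mul_inv_eq_one.1 hd))
  letI : Fintype H := Fintype.ofFinite H
  obtain ⟨hexp, hone⟩ := Char.one_class_of_four PH hPH4 fun ⟨N, hN, hc⟩ =>
    hncomp ⟨N, hN, by rw [← hc.index_eq_card]⟩
  obtain ⟨M, hM⟩ := Char.exists_pModular Nat.prime_two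
  have hK : IsKleinFour (PH : Subgroup H) := by
    refine ⟨hPH4, (Nat.dvd_prime Nat.prime_two).1 (Monoid.exponent_dvd_of_forall_pow_eq_one fun p => ?_)
      |>.resolve_left fun e1 => ?_⟩
    · rw [pow_two]; exact hexp p
    · haveI : Subsingleton (PH : Subgroup H) := Monoid.exp_eq_one_iff.1 e1
      have := Nat.card_of_subsingleton (1 : (PH : Subgroup H))
      omega
  obtain ⟨ζ₂, ζ₃, ζ₄, ε, hε, h2, h3, h23, h24, h34, hB, hv, c2, c3, c4, hreg⟩ :=
    S0948.result M hM PH hK hone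
  obtain ⟨hv2, hv3, hv4⟩ := hv J hJ2
  have h4 : (ζ₄ : H → ℂ) ≠ (fun _ => 1) := fun e => by
    rw [e] at hv4
    norm_num at hv4
  have hord := S4479.result M hM (PH : Subgroup H).index hodd hHcard hncomp PH J hJP hJ2 ζ₂ ζ₃ ζ₄ 1 ε (-1)
    hB ⟨h2, h3, h4, h23, h24, h34⟩ ⟨Or.inl rfl, hε, Or.inr rfl⟩
    ⟨by rw [hv2]; simp, hv3, by rw [hv4]; simp⟩
  -- the centralizers
  have hcJ : Nat.card (Subgroup.centralizer ({J} : Set H)) = 4 * Nat.card O := by
    rw [card_sub_cent, Set.image_singleton]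
    let f : O × V → (H ⊓ Subgroup.centralizer ({w ^ 2} : Set G) : Subgroup G) := fun p =>
      ⟨p.1 * p.2, mul_mem (Subgroup.mem_centralizer_iff.2 fun x hx =>
          h.O_comm (mem_fixed.1 (show x ∈ A from hx)).1 p.1.2) (hVH p.2.2),
        mul_mem (h.O_le p.1.2) (h.four_le_cent p.2.2)⟩
    have hf : Function.Bijective f := by
      refine ⟨fun p q e => ?_, fun g => ?_⟩
      · obtain ⟨e1, e2⟩ := h.mul_unique p.1.2 q.1.2 p.2.2.1 q.2.2.1 (congrArg Subtype.val e)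
        exact Prod.ext (Subtype.ext e1) (Subtype.ext e2)
      · obtain ⟨hgH, hgz⟩ := g.2
        obtain ⟨o, ho, s, hs, hgos⟩ := h.decomp (Subgroup.mem_centralizer_singleton_iff.1 hgz)
        have hgc := Subgroup.mem_centralizer_iff.1 hgH x₀ hx0
        rw [hgos] at hgc
        have hxs : x₀ * s = s * x₀ := by
          refine mul_left_cancel (a := o) ?_
          rw [← mul_assoc, h.O_comm ho (mem_fixed.1 hx0).1, mul_assoc, hgc, mul_assoc]
        exact ⟨(⟨o, ho⟩, ⟨s, h.closure_fix hx0 hx0' hs hxs⟩), Subtype.ext hgos.symm⟩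
    rw [← Nat.card_eq_of_bijective f hf, Nat.card_prod, hV4, mul_comm]
  have hcP : Nat.card (Subgroup.centralizer ((PH : Subgroup H) : Set H)) = 4 * Nat.card A := by
    rw [card_sub_cent, ← h.card_cent_pair]
    suffices he : H ⊓ Subgroup.centralizer ((fun x : H => (x : G)) '' ((PH : Subgroup H) : Set H)) =
        Subgroup.centralizer ({w ^ 2, τ} : Set G) by rw [he]
    ext g
    constructor
    · rintro ⟨-, hgc⟩
      refine Subgroup.mem_centralizer_iff.2 ?_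
      rintro v (rfl | rfl)
      · exact Subgroup.mem_centralizer_iff.1 hgc _ ⟨J, hJP, rfl⟩
      · exact Subgroup.mem_centralizer_iff.1 hgc _ ⟨⟨_, hVH h.t_mem_four⟩,
          (by rw [hPH]; exact h.t_mem_four), rfl⟩
    · intro hg
      have hgz := Subgroup.mem_centralizer_iff.1 hg (w ^ 2) (by simp)
      have hgt := Subgroup.mem_centralizer_iff.1 hg τ (by simp)
      obtain ⟨o, ho, s, hs, hgos⟩ := h.decomp hgz.symm
      have hall : ∀ v ∈ V, v * g = g * v := by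
        intro v hv
        rcases h.mem_four_iff.1 hv with rfl | rfl | rfl | rfl
        · simp
        · exact hgz
        · exact hgt
        · rw [mul_assoc, hgt, ← mul_assoc, hgz, mul_assoc]
      refine ⟨?_, Subgroup.mem_centralizer_iff.2 ?_⟩
      · rw [hgos]
        have hts : τ * s * τ⁻¹ ∈ Subgroup.closure ({w, τ} : Set G) := mul_mem
          (mul_mem (Subgroup.subset_closure (by simp)) hs) (inv_mem (Subgroup.subset_closure (by simp)))
        obtain ⟨-, e2⟩ := h.mul_unique (h.conjO h.tz ho) ho hts hs (by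
          calc τ * o * τ⁻¹ * (τ * s * τ⁻¹) = τ * (o * s) * τ⁻¹ := by group
            _ = o * s := by rw [← hgos, hgt, mul_inv_cancel_right])
        exact mul_mem (Subgroup.mem_centralizer_iff.2 fun x hx =>
            h.O_comm (mem_fixed.1 (show x ∈ A from hx)).1 ho)
          (hVH ⟨hs, Subgroup.mem_centralizer_singleton_iff.2 (mul_inv_eq_iff_eq_mul.1 e2).symm⟩)
      · rintro _ ⟨p, hp, rfl⟩
        rw [hPH] at hp
        exact hall _ hp
  rw [hcJ, hcP] at hord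
  set x₁ := Cfsg.charDegree (ζ₂ : H → ℂ) with hx1d
  set x₂ := Cfsg.charDegree (ζ₃ : H → ℂ) with hx2d
  set x₃ := Cfsg.charDegree (ζ₄ : H → ℂ) with hx3d
  have p1 : 0 < x₁ := Char.deg_pos ζ₂.2
  have p2 : 0 < x₂ := Char.deg_pos ζ₃.2
  have p3 : 0 < x₃ := Char.deg_pos ζ₄.2
  have hs1 := hreg 1 (by simp)
  rw [Char.char_one_eq_deg (Char.irr_isCharacter ζ₂.2), Char.char_one_eq_deg (Char.irr_isCharacter ζ₃.2),
    Char.char_one_eq_deg (Char.irr_isCharacter ζ₄.2)] at hs1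
  have hsum : 1 + (x₁ : ℤ) + ε * x₂ - x₃ = 0 := by
    have : ((1 + (x₁ : ℤ) + ε * x₂ - x₃ : ℤ) : ℂ) = ((0 : ℤ) : ℂ) := by
      push_cast
      exact hs1
    exact_mod_cast this
  refine ⟨x₁, x₂, x₃, ε, p1, p2, p3, hε, c2, c3, c4, hsum, Char.deg_dvd_card ζ₂.2,
    Char.deg_dvd_card ζ₃.2, Char.deg_dvd_card ζ₄.2, ?_⟩
  have hm := h.fixed_mul
  rw [← hm] at hord
  rw [← hA] at hord
  have ha : (Nat.card A : ℚ) ≠ 0 := Nat.cast_ne_zero.2 Nat.card_pos.ne'
  have q1 : ((x₁ : ℚ) + 1) ≠ 0 := by positivity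
  have q2 : ((x₂ : ℚ) + (ε : ℚ)) ≠ 0 := by
    have : (x₂ : ℤ) + ε ≠ 0 := by omega
    exact_mod_cast this
  have q3 : ((x₃ : ℚ) - 1) ≠ 0 := by
    have : (x₃ : ℤ) - 1 ≠ 0 := by omega
    exact_mod_cast this
  have q3' : ((x₃ : ℚ) + -1) ≠ 0 := by rwa [← sub_eq_add_neg]
  suffices hQ : ((Nat.card H : ℤ) * (((x₁ : ℤ) + 1) * (x₂ + ε) * (x₃ - 1)) : ℤ) =
      ((32 * (Nat.card A) * (Nat.card (fixed O (w * τ))) ^ 3 * ((x₁ : ℤ) * x₂ * x₃) : ℤ) : ℚ) by
    exact_mod_cast hQ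
  push_cast at hord ⊢
  rw [hord]
  field_simp
  ring

theorem cent_bound (h : Ctx w τ O) (h1 : 1 < Nat.card (fixed O τ)) :
    12 * Nat.card (fixed O τ) * Nat.card (fixed O (w * τ)) ^ 3 ≤
      Nat.card (Subgroup.centralizer (fixed O τ : Set G)) := by
  obtain ⟨x₀, hx0⟩ : ∃ x : fixed O τ, x ≠ 1 := by
    haveI := Finite.one_lt_card_iff_nontrivial.1 h1
    exact exists_ne 1
  obtain ⟨x₁, x₂, x₃, ε, p1, p2, p3, hε, -, c2, c3, hsum, -, -, -, heq⟩ :=
    h.cent_data x₀.2 (fun e => hx0 (Subtype.ext e))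
  have hb := alpha_bound (x₁ := x₁) (x₂ := x₂) (x₃ := x₃) (by omega) (by omega) (by omega) hε c2 hsum
  set n := Nat.card (Subgroup.centralizer (fixed O τ : Set G))
  set a := Nat.card (fixed O τ)
  set b := Nat.card (fixed O (w * τ))
  have hQ : (0 : ℤ) < ((x₁ : ℤ) + 1) * (x₂ + ε) * (x₃ - 1) := by
    have : (0 : ℤ) < (x₂ : ℤ) + ε := by omega
    have : (0 : ℤ) < (x₃ : ℤ) - 1 := by omega
    positivity
  have key : (12 * a * b ^ 3 : ℤ) * (((x₁ : ℤ) + 1) * (x₂ + ε) * (x₃ - 1)) ≤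
      (n : ℤ) * (((x₁ : ℤ) + 1) * (x₂ + ε) * (x₃ - 1)) := by
    rw [heq]
    linarith [mul_le_mul_of_nonneg_left hb (show (0 : ℤ) ≤ 4 * a * b ^ 3 by positivity)]
  exact_mod_cast le_of_mul_le_mul_right key hQ

theorem normalizer_bound (h : Ctx w τ O) (h1 : 1 < Nat.card (fixed O τ)) :
    2 * Nat.card (Subgroup.centralizer (fixed O τ : Set G)) ≤
      Nat.card (Subgroup.normalizer (fixed O τ : Set G)) := by
  obtain ⟨x₀, hx0⟩ : ∃ x : fixed O τ, x ≠ 1 := by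
    haveI := Finite.one_lt_card_iff_nontrivial.1 h1
    exact exists_ne 1
  have hle := Subgroup.centralizer_le_normalizer (fixed O τ : Set G)
  have hmem : ∀ x ∈ fixed O τ, w * x * w⁻¹ ∈ fixed O τ := fun x hx => by
    rw [h.w_inv (mem_fixed.1 hx).1]; exact inv_mem hx
  have hwN : w ∈ Subgroup.normalizer (fixed O τ : Set G) :=
    mem_normalizer_of_cj_le (by rintro _ ⟨x, hx, rfl⟩; exact hmem x hx)
  have hwC : w ∉ Subgroup.centralizer (fixed O τ : Set G) := fun hc => by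
    have e := Subgroup.mem_centralizer_iff.1 hc _ x₀.2
    have hxO := (mem_fixed.1 x₀.2).1
    refine hx0 (Subtype.ext (h.eq_one_of_cw ((h.memO _).1 hxO).2 e))
  obtain ⟨k, hk⟩ := Subgroup.card_dvd_of_le hle
  rcases k with _ | _ | k
  · rw [mul_zero] at hk; exact absurd hk Nat.card_pos.ne'
  · rw [zero_add, mul_one] at hk
    exact absurd (Subgroup.eq_of_le_of_card_ge hle hk.le ▸ hwN) hwC
  · rw [hk, mul_comm 2]
    exact Nat.mul_le_mul_left _ (by omega)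

end Ctx

end Cfsg.Agent.CentFour
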