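import Cfsg.Agent.Lib.Char.CentFour.Global
import Cfsg.Agent.Lib.Char.QDSimple
import Cfsg.Agent.Lib.Char.BrauerSuzuki
import Cfsg.Agent.Lib.Char.ZStar
import Cfsg.Agent.Lib.Fusion.DihedralCriteria
import Cfsg.Agent.Lib.Lie.FixityTwoSylow
import Cfsg.Agent.Lib.Lie.InvCentralizerFour
import Cfsg.Agent.Lib.Small.PSLThreeTwo
import Cfsg.Agent.S3035
import Cfsg.Agent.S3331
import Cfsg.Agent.S0984

/-!
# Simple groups with an element with a centralizer of order at most four
-/

set_option autoImplicit false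
set_option linter.unusedSectionVars false
set_option linter.style.haveILetI false

namespace Cfsg.Agent.CentFour

open Cfsg Cfsg.Agent.Fusion

universe u

theorem shape_of_small {S : Type u} [Group S] [Finite S] (hS : IsPGroup 2 S) {u : S}
    (hC : Nat.card (Subgroup.centralizer ({u} : Set S)) = 4) (h8 : 8 ≤ Nat.card S) :
    Solv.CyclicSelf.LeftCase S := by
  haveI : Fact (Nat.Prime 2) := ⟨Nat.prime_two⟩
  obtain ⟨k, hk⟩ := hS.exists_card_eq
  obtain ⟨m, rfl⟩ : ∃ m, k = m + 3 := ⟨k - 3, by
    have : 3 ≤ k := by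
      by_contra hlt
      have := hk ▸ (Nat.pow_le_pow_right two_pos (show k ≤ 2 by omega) : 2 ^ k ≤ 2 ^ 2)
      omega
    omega⟩
  have hne : (⊤ : Subgroup S).lowerCentralSeries (m + 1) ≠ ⊥ :=
    Solv.lcs_ne_bot_of_small_centralizer (p := 2) (m + 1) (by rw [hk]) ⟨u, by rw [hC]; norm_num⟩
  obtain ⟨x, hx⟩ := Solv.exists_cyclic_index_two m hk hne
  have hidx : (Subgroup.zpowers x).index = 2 := by
    have h := (Subgroup.zpowers x).card_mul_index
    rw [Nat.card_zpowers, hx, hk, pow_succ 2 (m + 2)] at h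
    exact Nat.eq_of_mul_eq_mul_left (pow_pos two_pos _) h
  haveI := Subgroup.normal_of_index_eq_two hidx
  have hself : ∀ j : ℤ, (x ^ j) ^ 2 ≠ 1 → ∀ y : S, Commute y (x ^ j) → y ∈ Subgroup.zpowers x := by
    intro j hj y hy
    by_contra hyn
    exact hj (Solv.sq_eq_one_of_commute hk hne hx hyn j hy)
  have hpow : ∀ i : ℕ, 0 < i → i < 2 ^ (m + 2) → x ^ i ≠ 1 := fun i h0 hlt e => by
    have := Nat.le_of_dvd h0 (orderOf_dvd_of_pow_eq_one e)
    omega
  have h4le : 4 ≤ 2 ^ (m + 2) := by
    calc 4 = 2 ^ 2 := by norm_num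
      _ ≤ _ := Nat.pow_le_pow_right two_pos (by omega)
  have D : Solv.CyclicSelf.Data 2 (m + 2) x := by
    refine ⟨hS, hx, by omega, fun y => ?_, fun y hy => ?_⟩
    · obtain ⟨e, he⟩ := Subgroup.mem_zpowers_iff.1
        (Subgroup.Normal.conj_mem inferInstance x (Subgroup.mem_zpowers x) y)
      exact ⟨e, he.symm⟩
    · refine hself 1 ?_ y (by rwa [zpow_one])
      rw [zpow_one]
      exact hpow 2 two_pos (by omega)
  have hne' : Subgroup.zpowers x ≠ ⊤ := fun e => by rw [e, Subgroup.index_top] at hidx; norm_num at hidx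
  exact (Solv.CyclicSelf.two_case D hne' fun h3' y hy => by
    refine hself 2 ?_ y (by simpa using hy)
    rw [zpow_ofNat, ← pow_mul]
    refine hpow 4 (by norm_num) ?_
    calc 4 < 2 ^ 3 := by norm_num
      _ ≤ _ := Nat.pow_le_pow_right two_pos h3').2

variable {G : Type u} [Group G] [Finite G] [IsSimpleGroup G]

theorem no_index_two (hnc : ¬ IsCyclic G) (H : Subgroup G) : H.index ≠ 2 := fun h =>
  false_of_index_le_two hnc (fun e => by rw [e, Subgroup.index_top] at h; omega) h.le

theorem no_cyclic_sylow (hnc : ¬ IsCyclic G) (P : Sylow 2 G) (hP : IsCyclic (P : Subgroup G))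
    (h2 : 2 ∣ Nat.card G) : False := by
  obtain ⟨-, -, -, -, H, hH⟩ := Char.QDSimple.exists_index_two_of_cyclic P hP h2
  exact no_index_two hnc H hH

theorem oddCore_bot (h2 : 2 ∣ Nat.card G) : oddCore G = ⊥ := by
  haveI : (oddCore G).Normal := pPrimeCore_normal 2 G
  rcases IsSimpleGroup.eq_bot_or_eq_top_of_normal (oddCore G) inferInstance with e | e
  · exact e
  · have := Char.card_oddCore_odd G
    rw [e, Subgroup.card_top] at this
    exact absurd h2 fun h => (Nat.not_even_iff_odd.2 this) (even_iff_two_dvd.2 h)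

theorem no_central (hnc : ¬ IsCyclic G) {t : G} (ht : t ≠ 1) (hc : ∀ g : G, t * g = g * t) : False := by
  rcases IsSimpleGroup.eq_bot_or_eq_top_of_normal (Subgroup.center G) inferInstance with e | e
  · exact ht (Subgroup.mem_bot.1 (e ▸ Subgroup.mem_center_iff.2 fun g => (hc g).symm))
  · letI : CommGroup G := { (inferInstance : Group G) with
      mul_comm := fun a b => Subgroup.mem_center_iff.1 (e ▸ Subgroup.mem_top b) a }
    exact hnc inferInstance

theorem no_quaternion (hnc : ¬ IsCyclic G) (P : Sylow 2 G) {q : ℕ}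
    (e : (P : Subgroup G) ≃* QuaternionGroup q) (h8 : 8 ≤ Nat.card (P : Subgroup G)) : False := by
  haveI : Fact (Nat.Prime 2) := ⟨Nat.prime_two⟩
  have hq0 : q ≠ 0 := by
    rintro rfl
    haveI : Finite (QuaternionGroup 0) := Finite.of_equiv _ e.toEquiv
    haveI : Finite ℤ := Finite.of_injective (fun i : ℤ => (QuaternionGroup.a i : QuaternionGroup 0))
      (fun i j h => QuaternionGroup.a.inj h)
    exact not_finite (ℤ : Type)
  haveI : NeZero q := ⟨hq0⟩
  obtain ⟨k, hk⟩ := IsPGroup.iff_card.1 P.isPGroup'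
  rw [hk] at h8
  have h4 : 4 * q = 2 ^ k := by
    rw [← hk, Nat.card_congr e.toEquiv, Nat.card_eq_fintype_card, QuaternionGroup.card]
  obtain ⟨j, rfl⟩ : ∃ j, k = j + 3 := ⟨k - 3, by
    have : 3 ≤ k := by
      by_contra hlt
      have := (Nat.pow_le_pow_right two_pos (show k ≤ 2 by omega) : 2 ^ k ≤ 2 ^ 2)
      omega
    omega⟩
  obtain rfl : q = 2 ^ (j + 1) := by rw [pow_add] at h4; rw [pow_add]; omega
  obtain ⟨t, -, hto, -⟩ := Char.exists_oddInvol_of_quaternion P j e
  refine no_central hnc hto.ne_one (Char.zStar_central hto (oddCore_bot ?_))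
  have h2 : orderOf t = 2 := orderOf_eq_prime (by rw [pow_two]; exact hto.sq) hto.ne_one
  exact h2 ▸ orderOf_dvd_natCard t

theorem center_invol {S : Type u} [Group S] [Finite S] (hS : IsPGroup 2 S) [Nontrivial S] :
    ∃ c : S, orderOf c = 2 ∧ ∀ s : S, s * c = c * s := by
  obtain ⟨a, haZ, ha⟩ := Char.QDSimple.exists_invol hS
  exact ⟨a, ha, fun s => Subgroup.mem_center_iff.1 haZ s⟩

theorem card_cent_sub {H : Subgroup G} (u : H) :
    Nat.card (Subgroup.centralizer ({u} : Set H)) ≤ Nat.card (Subgroup.centralizer ({(u : G)} : Set G)) :=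
  Nat.card_le_card_of_injective
    (fun c => (⟨(c : H), Subgroup.mem_centralizer_singleton_iff.2
      (congrArg Subtype.val (Subgroup.mem_centralizer_singleton_iff.1 c.2))⟩ :
        Subgroup.centralizer ({(u : G)} : Set G)))
    fun a b h => Subtype.ext (Subtype.ext (Subtype.ext_iff.1 h :))

/-- An involution with a centralizer of order two or four. -/
theorem case_invol (hnc : ¬ IsCyclic G) {w : G} (hw : orderOf w = 2)
    (hC : Nat.card (Subgroup.centralizer ({w} : Set G)) ≤ 4) :
    Nonempty (G ≃* ↥(alternatingGroup (Fin 5))) := by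
  classical
  haveI : Fact (Nat.Prime 2) := ⟨Nat.prime_two⟩
  set C := Subgroup.centralizer ({w} : Set G) with hCdef
  have h2G : 2 ∣ Nat.card G := hw ▸ orderOf_dvd_natCard w
  obtain ⟨S, hS⟩ := (IsPGroup.of_card (p := 2) (n := 1) (by rw [Nat.card_zpowers, hw, pow_one]) :
    IsPGroup 2 (Subgroup.zpowers w)).exists_le_sylow
  have hwS : w ∈ (S : Subgroup G) := hS (Subgroup.mem_zpowers w)
  obtain ⟨k, hk⟩ := IsPGroup.iff_card.1 S.isPGroup'
  have h2S : 2 ∣ Nat.card (S : Subgroup G) := by
    have := Subgroup.orderOf_dvd_natCard _ hwS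
    rwa [hw] at this
  haveI : Nontrivial (S : Subgroup G) :=
    ⟨⟨⟨w, hwS⟩, 1, fun e => by rw [show w = 1 from congrArg Subtype.val e, orderOf_one] at hw; omega⟩⟩
  rcases (show k ≤ 1 ∨ k = 2 ∨ 3 ≤ k by omega) with h1 | rfl | h3
  · exfalso
    interval_cases k
    · rw [hk] at h2S; norm_num at h2S
    · exact no_cyclic_sylow hnc S (isCyclic_of_prime_card (p := 2) (by rw [hk, pow_one])) h2G
  · have hS4 : Nat.card (S : Subgroup G) = 4 := by rw [hk]; norm_num
    have hncomp : ¬ ∃ N : Subgroup G, N.Normal ∧ N.IsComplement' (S : Subgroup G) := by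
      rintro ⟨N, hN, hc⟩
      have hi : N.index = 4 := by rw [hc.symm.index_eq_card, hS4]
      rcases IsSimpleGroup.eq_bot_or_eq_top_of_normal N hN with e | e
      · rw [e, Subgroup.index_bot] at hi
        have htop : (S : Subgroup G) = ⊤ := Subgroup.eq_top_of_card_eq _ (by rw [hS4, hi])
        letI : CommGroup G := { (inferInstance : Group G) with
          mul_comm := IsPGroup.commutative_of_card_eq_prime_sq (p := 2) (by rw [hi]; norm_num) }
        exact hnc inferInstance
      · rw [e, Subgroup.index_top] at hi; omega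
    letI : Fintype G := Fintype.ofFinite G
    obtain ⟨hexp, -⟩ := Char.one_class_of_four S hS4 hncomp
    have hle : (S : Subgroup G) ≤ C := fun s hs => Subgroup.mem_centralizer_singleton_iff.2
      (congrArg Subtype.val (IsPGroup.commutative_of_card_eq_prime_sq (p := 2) hk
        (⟨s, hs⟩ : (S : Subgroup G)) ⟨w, hwS⟩))
    have heq : (S : Subgroup G) = C := Subgroup.eq_of_le_of_card_ge hle (by rw [hS4]; exact hC)
    refine Lie.InvFour.alt_five_of_centralizer_four w hw (by rw [← hCdef, ← heq, hS4]) ?_ ?_ ?_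
    · intro c hc
      rw [← hCdef, ← heq] at hc
      rw [pow_two]
      exact congrArg Subtype.val (hexp ⟨c, hc⟩)
    · intro hn
      exact hncomp (hnpc_exists_complement hn S)
    · intro E hE hEl
      rcases IsSimpleGroup.eq_bot_or_eq_top_of_normal E hE with e | e
      · rw [e, Subgroup.card_bot]; omega
      · rw [e, Subgroup.card_top]
        refine ⟨fun h => hnc (isCyclic_of_prime_card (p := 2) h), fun h => ?_⟩
        letI : CommGroup G := { (inferInstance : Group G) with
          mul_comm := IsPGroup.commutative_of_card_eq_prime_sq (p := 2) (by rw [h]; norm_num) }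
        exact hnc inferInstance
  · exfalso
    obtain ⟨c, hc2, hcS⟩ := center_invol (S.isPGroup' : IsPGroup 2 (S : Subgroup G))
    have hS8 : 8 ≤ Nat.card (S : Subgroup G) := by
      rw [hk]
      calc 8 = 2 ^ 3 := by norm_num
        _ ≤ _ := Nat.pow_le_pow_right two_pos h3
    -- all involutions are conjugate
    set u : (S : Subgroup G) := ⟨w, hwS⟩ with hu
    have hCu : Nat.card (Subgroup.centralizer ({u} : Set (S : Subgroup G))) ≤ 4 := (card_cent_sub u).trans hC
    have hCu4 : Nat.card (Subgroup.centralizer ({u} : Set (S : Subgroup G))) = 4 := by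
      have hd : 2 ∣ Nat.card (Subgroup.centralizer ({u} : Set (S : Subgroup G))) := by
        have := Subgroup.orderOf_dvd_natCard (x := u) (Subgroup.centralizer ({u} : Set (S : Subgroup G)))
          (Subgroup.mem_centralizer_singleton_iff.2 rfl)
        rwa [hu, Subgroup.orderOf_mk, hw] at this
      obtain ⟨j, hj⟩ := IsPGroup.iff_card.1 ((S.isPGroup' : IsPGroup 2 (S : Subgroup G)).to_subgroup
        (Subgroup.centralizer ({u} : Set (S : Subgroup G))))
      have hj' : 2 ≤ j := by
        by_contra hlt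
        have huC : Subgroup.zpowers u = Subgroup.centralizer ({u} : Set (S : Subgroup G)) :=
          Subgroup.eq_of_le_of_card_ge (Subgroup.zpowers_le.2 (Subgroup.mem_centralizer_singleton_iff.2 rfl)) (by
            rw [hj, Nat.card_zpowers, hu, Subgroup.orderOf_mk, hw]
            exact (Nat.pow_le_pow_right two_pos (show j ≤ 1 by omega)).trans (by norm_num))
        have hcC : c ∈ Subgroup.zpowers u := huC ▸ Subgroup.mem_centralizer_singleton_iff.2 (hcS u).symm
        have hcu : c = u := by
          rcases (Subgroup.mem_zpowers_iff.1 hcC) with ⟨i, rfl⟩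
          have hu2 : u ^ (2 : ℤ) = 1 := by
            rw [zpow_ofNat]; exact Subtype.ext (by simp [u, ← hw, pow_orderOf_eq_one])
          rcases Int.even_or_odd' i with ⟨l, rfl | rfl⟩
          · rw [zpow_mul, hu2, one_zpow, orderOf_one] at hc2; omega
          · rw [zpow_add, zpow_mul, hu2, one_zpow, zpow_one, one_mul]
        rw [hcu] at hcS
        have : (⊤ : Subgroup (S : Subgroup G)) ≤ Subgroup.centralizer ({u} : Set (S : Subgroup G)) :=
          fun s _ => Subgroup.mem_centralizer_singleton_iff.2 (hcS s)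
        have := Subgroup.card_le_of_le this
        rw [Subgroup.card_top] at this
        omega
      have hj4 : j ≤ 2 := by
        by_contra hlt
        have := Nat.pow_le_pow_right two_pos (show 3 ≤ j by omega)
        omega
      obtain rfl : j = 2 := by omega
      rw [hj]; norm_num
    letI : Fintype G := Fintype.ofFinite G
    have hone : ∀ a b : G, orderOf a = 2 → orderOf b = 2 → IsConj a b := by
      intro a b ha hb
      rcases Lie.FixityTwoSylow.dihedral_or_cyclic S.isPGroup' (u := u)
        (Subtype.ext (by show w * w = 1; rw [← pow_two, ← hw, pow_orderOf_eq_one])) hCu4 with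
        (⟨n, ⟨e⟩⟩ | hq) | ⟨-, h4⟩
      · have hn : Nat.card (S : Subgroup G) = 2 * n := by
          rw [Nat.card_congr e.toEquiv, DihedralGroup.nat_card]
        haveI : NeZero n := ⟨by omega⟩
        obtain ⟨i, rfl⟩ : ∃ i, k = i + 3 := ⟨k - 3, by omega⟩
        have h4n : 4 ∣ n := ⟨2 ^ i, by rw [hk, pow_add] at hn; omega⟩
        rcases Solv.DihedralClasses.main S h4n ((S : Subgroup G).subtype.comp e.symm.toMonoidHom)
          ((Subgroup.subtype_injective _).comp e.symm.injective) (by
            rw [MonoidHom.range_comp, MonoidHom.range_eq_top.2 e.symm.surjective, ← MonoidHom.range_eq_map,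
              Subgroup.range_subtype]) with ⟨h, -⟩ | ⟨-, ⟨N, -, hN⟩, -⟩ | ⟨-, hn'⟩
        · exact Char.CentD8.isConj_of_one_class h ha hb
        · exact absurd hN (no_index_two hnc N)
        · obtain ⟨H, hH⟩ := DihedralFours.index_two_of_hnpc hn' h2G
          exact absurd hH (no_index_two hnc H)
      · exact Char.QDSimple.one_class S (Or.inl hq) (no_index_two hnc) ha hb
      · omega
    obtain ⟨g, hg⟩ := isConj_iff.1 (hone (c : G) w (by rw [Subgroup.orderOf_coe, hc2]) hw)
    have hle : cj (S : Subgroup G) g ≤ C := by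
      rintro _ ⟨s, hs, rfl⟩
      rw [hCdef, Subgroup.mem_centralizer_singleton_iff, ← hg]
      have e : s * (c : G) = (c : G) * s := congrArg Subtype.val (hcS ⟨s, hs⟩)
      simp only [MulEquiv.coe_toMonoidHom, MulAut.conj_apply]
      calc g * s * g⁻¹ * (g * c * g⁻¹) = g * (s * c) * g⁻¹ := by group
        _ = g * (c * s) * g⁻¹ := by rw [e]
        _ = _ := by group
    have := Subgroup.card_le_of_le hle
    rw [card_cj] at this
    omega

/-- An element of order four with a centralizer of order four. -/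
theorem case_four (hnc : ¬ IsCyclic G) {w : G} (hw : orderOf w = 4)
    (hC : Nat.card (Subgroup.centralizer ({w} : Set G)) = 4) :
    Nonempty (G ≃* ↥(alternatingGroup (Fin 6))) ∨ Nonempty (G ≃* ↥(alternatingGroup (Fin 7))) ∨
      (Nat.card G = 168) := by
  classical
  haveI : Fact (Nat.Prime 2) := ⟨Nat.prime_two⟩
  have h2G : 2 ∣ Nat.card G := (by norm_num : 2 ∣ 4).trans (hw ▸ orderOf_dvd_natCard w)
  obtain ⟨S, hS⟩ := (IsPGroup.of_card (p := 2) (n := 2) (by rw [Nat.card_zpowers, hw]; norm_num) :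
    IsPGroup 2 (Subgroup.zpowers w)).exists_le_sylow
  have hwS : w ∈ (S : Subgroup G) := hS (Subgroup.mem_zpowers w)
  have h4 : 4 ≤ Nat.card (S : Subgroup G) := by
    have := Subgroup.card_le_of_le hS
    rwa [Nat.card_zpowers, hw] at this
  obtain ⟨k, hk⟩ := IsPGroup.iff_card.1 S.isPGroup'
  rcases (show Nat.card (S : Subgroup G) = 4 ∨ 8 ≤ Nat.card (S : Subgroup G) by
    rw [hk] at h4 ⊢
    rcases (show k ≤ 1 ∨ k = 2 ∨ 3 ≤ k by omega) with h | rfl | h
    · have := Nat.pow_le_pow_right two_pos h; omega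
    · left; norm_num
    · right; exact le_trans (by norm_num) (Nat.pow_le_pow_right two_pos h)) with hS4 | hS8
  · exfalso
    refine no_cyclic_sylow hnc S ?_ h2G
    rw [← Subgroup.eq_of_le_of_card_ge hS (by rw [hS4, Nat.card_zpowers, hw])]
    infer_instance
  set u : (S : Subgroup G) := ⟨w, hwS⟩ with hu
  have hCu : Nat.card (Subgroup.centralizer ({u} : Set (S : Subgroup G))) = 4 := by
    refine le_antisymm ((card_cent_sub u).trans hC.le) ?_
    calc 4 = Nat.card (Subgroup.zpowers u) := by rw [Nat.card_zpowers, hu, Subgroup.orderOf_mk, hw]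
      _ ≤ _ := Subgroup.card_le_of_le (Subgroup.zpowers_le.2 (Subgroup.mem_centralizer_singleton_iff.2 rfl))
  rcases shape_of_small S.isPGroup' hCu hS8 with ⟨n, ⟨e⟩⟩ | ⟨q, ⟨e⟩⟩ | hq
  rotate_left
  · exact (no_quaternion hnc S e hS8).elim
  · exfalso
    obtain ⟨n, ⟨D⟩⟩ := exists_qdData' hq
    have hf : D.FusedFour := by
      by_contra hf
      obtain ⟨K, -, hK, -⟩ := D.exists_K_dihedral hf
      exact no_index_two hnc K hK
    have hc : IsConj w ((D.x ^ D.q : (S : Subgroup G)) : G) := by
      rcases D.four_element_cases (s := u) hw with h | h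
      · exact h
      · exact h.trans (IsConj.symm hf)
    obtain ⟨g, hg⟩ := isConj_iff.1 hc
    have hle : Subgroup.zpowers (g⁻¹ * (D.x : G) * g) ≤ Subgroup.centralizer ({w} : Set G) := by
      refine Subgroup.zpowers_le.2 (Subgroup.mem_centralizer_singleton_iff.2 ?_)
      have hcm : (D.x : G) * (g * w * g⁻¹) = g * w * g⁻¹ * (D.x : G) := by
        rw [hg]
        exact congrArg Subtype.val (Commute.self_zpow D.x D.q).eq
      calc g⁻¹ * (D.x : G) * g * w = g⁻¹ * ((D.x : G) * (g * w * g⁻¹)) * g := by group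
        _ = g⁻¹ * (g * w * g⁻¹ * (D.x : G)) * g := by rw [hcm]
        _ = _ := by group
    have h8 := Subgroup.card_le_of_le hle
    rw [hC, Nat.card_zpowers, show g⁻¹ * (D.x : G) * g = MulAut.conj g⁻¹ (D.x : G) by simp,
      MulEquiv.orderOf_eq, Subgroup.orderOf_coe, D.ox] at h8
    have := Nat.pow_le_pow_right two_pos D.hn
    omega
  -- dihedral
  have hn : Nat.card (S : Subgroup G) = 2 * n := by
    rw [Nat.card_congr e.toEquiv, DihedralGroup.nat_card]
  haveI : NeZero n := ⟨by omega⟩
  have hk3 : 3 ≤ k := by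
    by_contra hlt
    have := Nat.pow_le_pow_right two_pos (show k ≤ 2 by omega)
    omega
  obtain ⟨i, rfl⟩ : ∃ i, k = i + 3 := ⟨k - 3, by omega⟩
  have h4n : 4 ∣ n := ⟨2 ^ i, by rw [hk, pow_add] at hn; omega⟩
  set ι : DihedralGroup n →* G := (S : Subgroup G).subtype.comp e.symm.toMonoidHom with hι
  have hinj : Function.Injective ι := (Subgroup.subtype_injective _).comp e.symm.injective
  have hrange : ι.range = (S : Subgroup G) := by
    rw [hι, MonoidHom.range_comp, MonoidHom.range_eq_top.2 e.symm.surjective, ← MonoidHom.range_eq_map,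
      Subgroup.range_subtype]
  obtain ⟨d, hd⟩ := hrange.ge hwS
  have hdo : orderOf d = 4 := by rw [← orderOf_injective ι hinj, hd, hw]
  obtain ⟨j, rfl⟩ : ∃ j, d = DihedralGroup.r j := by
    cases d with
    | r j => exact ⟨j, rfl⟩
    | sr j => rw [DihedralGroup.orderOf_sr] at hdo; omega
  have hn4 : n = 4 := by
    have hle : Subgroup.zpowers (ι (DihedralGroup.r 1)) ≤ Subgroup.centralizer ({w} : Set G) := by
      refine Subgroup.zpowers_le.2 (Subgroup.mem_centralizer_singleton_iff.2 ?_)
      rw [← hd, ← map_mul, ← map_mul, DihedralGroup.r_mul_r, DihedralGroup.r_mul_r, add_comm]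
    have h8 := Subgroup.card_le_of_le hle
    rw [hC, Nat.card_zpowers, orderOf_injective ι hinj, DihedralGroup.orderOf_r_one] at h8
    have := Nat.le_of_dvd (Nat.pos_of_ne_zero (NeZero.ne n)) h4n
    omega
  subst hn4
  have hS8' : Nat.card (S : Subgroup G) = 8 := hn
  set τ := ι (DihedralGroup.sr 0) with hτ
  have hto : orderOf τ = 2 := by rw [hτ, orderOf_injective ι hinj, DihedralGroup.orderOf_sr]
  have hrel : τ * w * τ⁻¹ = w⁻¹ := by
    rw [hτ, ← hd, ← map_inv, ← map_inv, ← map_mul, ← map_mul]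
    congr 1
    rw [DihedralGroup.inv_sr, DihedralGroup.sr_mul_r, DihedralGroup.sr_mul_sr, DihedralGroup.inv_r]
    congr 1
    ring
  have hclos : (S : Subgroup G) = Subgroup.closure ({w, τ} : Set G) := by
    have hw1 : w ^ 4 = 1 := by rw [← hw, pow_orderOf_eq_one]
    have htt : τ * τ = 1 := by rw [← pow_two, ← hto, pow_orderOf_eq_one]
    have hle : Subgroup.closure ({w, τ} : Set G) ≤ (S : Subgroup G) := by
      rw [Subgroup.closure_le]
      rintro x (rfl | rfl)
      · exact hwS
      · exact hrange.le ⟨_, rfl⟩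
    refine (Subgroup.eq_of_le_of_card_ge hle ?_).symm
    have hle2 : (Char.dihHom hw1 htt hrel).range ≤ Subgroup.closure ({w, τ} : Set G) :=
      Char.dihHom_range_le hw1 htt hrel (Subgroup.subset_closure (by simp)) (Subgroup.subset_closure (by simp))
    have h8 := Subgroup.card_le_of_le hle2
    rw [← Nat.card_congr (MonoidHom.ofInjective (Char.dihHom_injective (dvd_refl 4) hw hw1 htt hrel)).toEquiv,
      DihedralGroup.nat_card] at h8
    omega
  letI : Fintype G := Fintype.ofFinite G
  have hone : ∀ a b : G, orderOf a = 2 → orderOf b = 2 → IsConj a b := by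
    intro a b ha hb
    rcases Solv.DihedralClasses.main S (dvd_refl 4) ι hinj hrange with ⟨h, -⟩ | ⟨-, ⟨N, -, hN⟩, -⟩ | ⟨-, hn'⟩
    · exact Char.CentD8.isConj_of_one_class h ha hb
    · exact absurd hN (no_index_two hnc N)
    · obtain ⟨H, hH⟩ := DihedralFours.index_two_of_hnpc hn' h2G
      exact absurd hH (no_index_two hnc H)
  -- the odd part of the centralizer of the central involution
  have hJ : Char.dihJ ι = w ^ 2 := by
    have key : ∀ j : ZMod 4, j + j ≠ 0 → j + j = ((4 / 2 : ℕ) : ZMod 4) := by decide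
    have hj : (DihedralGroup.r j : DihedralGroup 4) ^ 2 = DihedralGroup.r (((4 / 2 : ℕ) : ZMod 4)) := by
      rw [pow_two, DihedralGroup.r_mul_r, key j fun e => ?_]
      have := orderOf_dvd_of_pow_eq_one (show (DihedralGroup.r j : DihedralGroup 4) ^ 2 = 1 by
        rw [pow_two, DihedralGroup.r_mul_r, e, DihedralGroup.one_def])
      rw [hdo] at this
      norm_num at this
    rw [Char.dihJ, ← hj, map_pow, hd]
  have hD : Char.DihSyl S ι := ⟨dvd_refl 4, ⟨2, rfl⟩, hinj, hrange⟩
  obtain ⟨hnp, hfac⟩ := hD.cent_J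
  rw [hJ] at hnp hfac
  set Cz := Subgroup.centralizer ({w ^ 2} : Set G) with hCz
  obtain ⟨K, hKn, hKc, hKreg⟩ := Char.hnpc_iff_regular.1 hnp
  obtain ⟨T, N, hN, hNc⟩ := hnp
  haveI := hN
  have hKN : K = N := Char.eq_complement hKc hKreg hNc
  have hKidx : K.index = 8 := by
    rw [hKN, hNc.symm.index_eq_card, T.card_eq_multiplicity, hfac]
  set O := K.map Cz.subtype with hO
  have hmemO : ∀ x, x ∈ O ↔ x * w ^ 2 = w ^ 2 * x ∧ ¬ 2 ∣ orderOf x := by
    intro x
    constructor
    · rintro ⟨y, hy, rfl⟩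
      refine ⟨Subgroup.mem_centralizer_singleton_iff.1 y.2, fun hd' => hKc ?_⟩
      rw [Subgroup.coe_subtype, Subgroup.orderOf_coe] at hd'
      exact hd'.trans (Subgroup.orderOf_dvd_natCard K hy)
    · rintro ⟨hx, hxo⟩
      exact ⟨⟨x, Subgroup.mem_centralizer_singleton_iff.2 hx⟩,
        hKreg _ (by rwa [← Subgroup.orderOf_coe]), rfl⟩
  have hcz : Nat.card Cz = 8 * Nat.card O := by
    rw [hO, Subgroup.card_map_of_injective Cz.subtype_injective, ← K.index_mul_card, hKidx]
  have h : Ctx w τ O := ⟨hw, hto, hrel, hC, ⟨S, hclos⟩, hone, hmemO, hcz⟩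
  rcases h.main hnc with hm | hg
  · have hcard : Nat.card Cz = 8 := by rw [hcz, hm]
    have hle : (S : Subgroup G) ≤ Cz := hclos.le.trans h.closure_le_cent
    have heq : (S : Subgroup G) = Cz := Subgroup.eq_of_le_of_card_ge hle (by rw [hcard, hS8'])
    rcases S3035.result (w ^ 2) h.z_ord ⟨(MulEquiv.subgroupCongr heq.symm).trans e⟩ with
      h1 | ⟨⟨f⟩⟩ | ⟨⟨f⟩⟩ | ⟨⟨f⟩⟩ | ⟨⟨f⟩⟩
    · exfalso
      rw [oddCore_bot h2G, sup_bot_eq] at h1
      refine no_central hnc h.z_ne fun g => ?_
      exact (Subgroup.mem_centralizer_singleton_iff.1 (h1 ▸ Subgroup.mem_top g)).symm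
    · exfalso
      refine no_index_two hnc ((alternatingGroup (Fin 4)).comap f.toMonoidHom) ?_
      rw [Subgroup.index_comap_of_surjective _ f.surjective, alternatingGroup.index_eq_two]
    · exfalso
      refine no_index_two hnc ((alternatingGroup (Fin 5)).comap f.toMonoidHom) ?_
      rw [Subgroup.index_comap_of_surjective _ f.surjective, alternatingGroup.index_eq_two]
    · refine Or.inr (Or.inr ?_)
      rw [Nat.card_congr f.toEquiv, ← Nat.card_congr Lead.CentDEight.sl_three_two.toEquiv]
      exact (Small.PSLThreeTwo.psl_three_two (by rw [ZMod.card])).2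
    · exact Or.inl ⟨f⟩
  · exact Or.inr (Or.inl (S0984.result hg))

/-- The classification. -/
theorem classification (hnc : ¬ IsCyclic G) (w : G)
    (hw : Nat.card ↥(Subgroup.centralizer ({w} : Set G)) ≤ 4) :
    Nonempty (G ≃* ↥(alternatingGroup (Fin 5))) ∨ Nonempty (G ≃* ↥(alternatingGroup (Fin 6))) ∨
      Nonempty (G ≃* ↥(alternatingGroup (Fin 7))) ∨
      (∃ (F : Type) (_ : Field F) (_ : Fintype F), Fintype.card F = 7 ∧
        Nonempty (G ≃* Matrix.ProjectiveSpecialLinearGroup (Fin 2) F)) := by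
  classical
  haveI : Fact (Nat.Prime 7) := ⟨by norm_num⟩
  set C := Subgroup.centralizer ({w} : Set G) with hC
  have hd : orderOf w ∣ Nat.card C :=
    Subgroup.orderOf_dvd_natCard _ (Subgroup.mem_centralizer_singleton_iff.2 rfl)
  by_cases hw1 : w = 1
  · exfalso
    have htop : C = ⊤ := (Subgroup.eq_top_iff' _).2 fun g =>
      Subgroup.mem_centralizer_singleton_iff.2 (by rw [hw1, mul_one, one_mul])
    rw [htop, Subgroup.card_top] at hw
    have hpos := Nat.card_pos (α := G)
    have h1 : 1 < Nat.card G := Finite.one_lt_card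
    rcases (show Nat.card G = 2 ∨ Nat.card G = 3 ∨ Nat.card G = 4 by omega) with h | h | h
    · haveI : Fact (Nat.Prime 2) := ⟨Nat.prime_two⟩
      exact hnc (isCyclic_of_prime_card h)
    · haveI : Fact (Nat.Prime 3) := ⟨Nat.prime_three⟩
      exact hnc (isCyclic_of_prime_card h)
    · haveI : Fact (Nat.Prime 2) := ⟨Nat.prime_two⟩
      letI : CommGroup G := { (inferInstance : Group G) with
        mul_comm := IsPGroup.commutative_of_card_eq_prime_sq (p := 2) (by rw [h]; norm_num) }
      exact hnc inferInstance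
  have ho : 2 ≤ orderOf w := by
    have h0 := orderOf_pos w
    have h1 : orderOf w ≠ 1 := fun e => hw1 (orderOf_eq_one_iff.1 e)
    omega
  have hCpos : 0 < Nat.card C := Nat.card_pos
  have hle := Nat.le_of_dvd hCpos hd
  rcases (show orderOf w = 2 ∨ (orderOf w = 3 ∧ Nat.card C = 3) ∨ (orderOf w = 4 ∧ Nat.card C = 4) by
    obtain ⟨q, hq⟩ := hd
    generalize orderOf w = o at ho hle hq
    have : o ≤ 4 := by omega
    interval_cases o <;> omega) with h | ⟨h, hc⟩ | ⟨h, hc⟩
  · exact Or.inl (case_invol hnc h hw)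
  · have hX : Subgroup.zpowers w = C := Subgroup.eq_of_le_of_card_ge
      (Subgroup.zpowers_le.2 (Subgroup.mem_centralizer_singleton_iff.2 rfl))
      (by rw [hc, Nat.card_zpowers, h])
    rcases S3331.result (Subgroup.zpowers w) (by rw [Nat.card_zpowers, h]) (by
        rw [Subgroup.zpowers_eq_closure, Subgroup.centralizer_closure, ← Subgroup.zpowers_eq_closure, hX])
      with ⟨N, hN, -, hco, hQ⟩ | ⟨N, hN, -, -, ⟨f⟩⟩ | ⟨f⟩
    · exfalso
      rcases IsSimpleGroup.eq_bot_or_eq_top_of_normal N hN with e | e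
      · subst e
        rcases hQ with hQ | ⟨⟨f⟩⟩
        · haveI : Fact (Nat.Prime 3) := ⟨Nat.prime_three⟩
          rw [← Subgroup.index_eq_card, Subgroup.index_bot] at hQ
          exact hnc (isCyclic_of_prime_card hQ)
        · refine no_index_two hnc ((alternatingGroup (Fin 3)).comap
            (QuotientGroup.quotientBot.symm.trans f).toMonoidHom) ?_
          rw [Subgroup.index_comap_of_surjective _ (QuotientGroup.quotientBot.symm.trans f).surjective,
            alternatingGroup.index_eq_two]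
      · rw [e, Subgroup.card_top, Nat.coprime_comm, Nat.prime_three.coprime_iff_not_dvd] at hco
        exact hco (h ▸ orderOf_dvd_natCard w)
    · rcases IsSimpleGroup.eq_bot_or_eq_top_of_normal N hN with e | e
      · subst e
        exact Or.inl ⟨QuotientGroup.quotientBot.symm.trans f⟩
      · exfalso
        have h1 := Nat.card_congr f.toEquiv
        rw [← Subgroup.index_eq_card, e, Subgroup.index_top, nat_card_alternatingGroup, Nat.card_fin] at h1
        norm_num [Nat.factorial] at h1
    · exact Or.inr (Or.inr (Or.inr ⟨ZMod 7, inferInstance, inferInstance, ZMod.card 7, f⟩))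
  · rcases case_four hnc h hc with h' | h' | h'
    · exact Or.inr (Or.inl h')
    · exact Or.inr (Or.inr (Or.inl h'))
    · obtain ⟨hs, hc'⟩ := Small.PSLThreeTwo.psl_two_seven (F := ZMod 7) (ZMod.card 7)
      haveI := hs
      exact Or.inr (Or.inr (Or.inr ⟨ZMod 7, inferInstance, inferInstance, ZMod.card 7,
        Small.Order168Iso.iso h' hc'⟩))

end Cfsg.Agent.CentFour
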